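import Groth.Agent.EssEtGal7.Main
import Mathlib

/-! Fractions in intersections. -/

set_option autoImplicit false
universe u

namespace Groth.Agent.EssEtGal7

theorem exists_mul_eq_algebraMap {A B : Type u} [CommRing A] [CommRing B] [IsDomain B] [Algebra A B]
    [Algebra.IsIntegral A B] {b : B} (hb : b ≠ 0) :
    ∃ (b' : B) (c : A), algebraMap A B c ≠ 0 ∧ b * b' = algebraMap A B c := by
  let R := (algebraMap A B).range
  letI : Algebra A R := ((algebraMap A B).rangeRestrict).toAlgebra
  haveI : IsScalarTower A R B := IsScalarTower.of_algebraMap_eq fun _ => rfl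
  haveI : Algebra.IsIntegral R B := ⟨fun x => (Algebra.IsIntegral.isIntegral (R := A) x).tower_top⟩
  have hne : (Ideal.span {b}).comap (algebraMap R B) ≠ ⊥ :=
    Ideal.IsIntegral.comap_ne_bot (R := R) (I := Ideal.span {b}) (by simpa using hb)
  obtain ⟨r, hr, hr0⟩ := Submodule.exists_mem_ne_zero_of_ne_bot hne
  obtain ⟨b', hb'⟩ := Ideal.mem_span_singleton'.1 (Ideal.mem_comap.1 hr)
  obtain ⟨c, hc⟩ := r.2
  refine ⟨b', c, fun h => hr0 (Subtype.ext (hc.symm.trans h)), ?_⟩
  rw [mul_comm, hb']
  exact hc.symm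

/-- Every element of the subfield is a fraction of elements of the intersection, with denominator from `A`. -/
theorem exists_fraction {A B M : Type u} [CommRing A] [CommRing B] [IsDomain B] [Algebra A B]
    [Algebra.IsIntegral A B] [Field M] [Algebra B M] [IsFractionRing B M] [Algebra A M] [IsScalarTower A B M]
    (L : Subfield M) (hAL : ∀ a, algebraMap A M a ∈ L) {l : M} (hl : l ∈ L) :
    ∃ (a : B) (c : A), algebraMap B M a ∈ L ∧ algebraMap A B c ≠ 0 ∧
      l * algebraMap B M (algebraMap A B c) = algebraMap B M a := by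
  obtain ⟨a, b, hb, rfl⟩ := IsFractionRing.div_surjective (A := B) l
  have hb0 : b ≠ 0 := nonZeroDivisors.ne_zero hb
  obtain ⟨b', c, hc, hbc⟩ := exists_mul_eq_algebraMap (A := A) hb0
  have hb1 : algebraMap B M b ≠ 0 := (map_ne_zero_iff _ (IsFractionRing.injective B M)).2 hb0
  have h : algebraMap B M a / algebraMap B M b * algebraMap B M (algebraMap A B c) = algebraMap B M (a * b') := by
    rw [← hbc, map_mul, map_mul, ← mul_assoc, div_mul_cancel₀ _ hb1]
  refine ⟨a * b', c, ?_, hc, h⟩
  rw [← h, ← IsScalarTower.algebraMap_apply]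
  exact mul_mem hl (hAL c)

end Groth.Agent.EssEtGal7
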