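import Groth.Agent.BrnchLib.Unibranch
import Groth.Agent.Hensel.IntegralStrict
import Groth.Agent.Hensel.HenselizationProps
import Mathlib

/-! Purely inseparable residue fields of normalizations and geometric branches. -/

set_option autoImplicit false
set_option linter.style.haveILetI false
universe u v

namespace Groth.Agent.EssEtGal7

open Groth.Agent.BrnchLib

/-- Residue fields of the normalization are purely inseparable over the ring. -/
def PI (R : Type u) [CommRing R] : Prop :=
  ∀ (M : Ideal (integralClosure R (FractionRing R))), M.IsMaximal →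
    ∀ x : integralClosure R (FractionRing R) ⧸ M, ∃ n : ℕ,
      x ^ (ringExpChar (integralClosure R (FractionRing R) ⧸ M)) ^ n ∈
        ((Ideal.Quotient.mk M).comp (algebraMap R (integralClosure R (FractionRing R)))).range

/-- No separable elements besides the range, in terms of powers. -/
theorem separableClosure_eq_bot_iff {R : Type u} [CommRing R] {l : Type v} [Field l] (φ : R →+* l) (hφ : φ.IsIntegral) :
    separableClosure (Subfield.closure (Set.range φ)) l = ⊥ ↔
      ∀ x : l, ∃ n : ℕ, x ^ (ringExpChar l) ^ n ∈ φ.range := by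
  let F := Subfield.closure (Set.range φ)
  have hsub : ∀ x, x ∈ φ.range → x ∈ F := fun x hx => Subfield.subset_closure hx
  letI := φ.range.toCommRing
  haveI : Algebra.IsIntegral φ.range l := ⟨fun x => by
    obtain ⟨P, hP, hP0⟩ := hφ x
    refine ⟨P.map φ.rangeRestrict, hP.map _, ?_⟩
    rw [Polynomial.eval₂_map]
    exact hP0⟩
  have hfield : IsField φ.range := isField_of_isIntegral_of_isField Subtype.val_injective (Field.toIsField l)
  have hF : ∀ x, x ∈ F → x ∈ φ.range := by
    let K : Subfield l :=
      { φ.range with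
        inv_mem' := fun x hx => by
          rcases eq_or_ne x 0 with rfl | h0
          · rw [inv_zero]; exact φ.range.zero_mem
          · obtain ⟨y, hy⟩ := hfield.mul_inv_cancel (a := (⟨x, hx⟩ : φ.range)) (fun h => h0 (congrArg Subtype.val h))
            have h1 : x * (y : l) = 1 := congrArg Subtype.val hy
            rw [← eq_inv_of_mul_eq_one_right h1]
            exact y.2 }
    intro x hx
    exact (Subfield.closure_le (t := K)).2 (fun y hy => hy) hx
  haveI : Algebra.IsIntegral F l := ⟨fun x => by
    obtain ⟨P, hP, hP0⟩ := hφ x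
    refine ⟨P.map (φ.codRestrict F fun r => hsub _ ⟨r, rfl⟩), hP.map _, ?_⟩
    rw [Polynomial.eval₂_map]
    exact hP0⟩
  haveI : Algebra.IsAlgebraic F l := Algebra.IsIntegral.isAlgebraic
  haveI : ExpChar F (ringExpChar l) := by
    haveI : ExpChar F (ringExpChar F) := ringExpChar.expChar F
    haveI : ExpChar l (ringExpChar F) := expChar_of_injective_ringHom (algebraMap F l).injective _
    rw [ringExpChar.eq l (ringExpChar F)]
    infer_instance
  rw [separableClosure.eq_bot_iff, isPurelyInseparable_iff_pow_mem F (ringExpChar l)]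
  refine forall_congr' fun x => exists_congr fun n => ⟨?_, fun h => ⟨⟨_, hsub _ h⟩, rfl⟩⟩
  rintro ⟨y, hy⟩
  rw [← hy]
  exact hF _ y.2

theorem PI_of_ringEquiv {R R' : Type u} [CommRing R] [CommRing R'] (e : R ≃+* R') (h : PI R) : PI R' := by
  intro M' hM'
  let f : FractionRing R ≃+* FractionRing R' := IsFractionRing.ringEquivOfRingEquiv e
  have hf : ∀ r, f (algebraMap R _ r) = algebraMap R' _ (e r) := fun r => IsFractionRing.ringEquivOfRingEquiv_algebraMap e r
  let g : integralClosure R (FractionRing R) →+* integralClosure R' (FractionRing R') :=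
    (f.toRingHom.comp (integralClosure R (FractionRing R)).val.toRingHom).codRestrict _ fun x =>
      IsIntegral.map_of_comp_eq e.toRingHom f.toRingHom (RingHom.ext fun r => (hf r).symm) x.2
  have hg : Function.Surjective g := fun y => by
    refine ⟨⟨f.symm y.1, IsIntegral.map_of_comp_eq e.symm.toRingHom f.symm.toRingHom (RingHom.ext fun r => ?_) y.2⟩,
      Subtype.ext (f.apply_symm_apply _)⟩
    show algebraMap R _ (e.symm r) = f.symm (algebraMap R' _ r)
    apply f.injective
    rw [hf, RingEquiv.apply_symm_apply, RingEquiv.apply_symm_apply]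
  haveI := hM'
  let M := M'.comap g
  haveI hM : M.IsMaximal := Ideal.comap_isMaximal_of_surjective g hg
  let r : integralClosure R (FractionRing R) ⧸ M ≃+* integralClosure R' (FractionRing R') ⧸ M' :=
    RingEquiv.ofBijective (Ideal.quotientMap M' g le_rfl) ⟨Ideal.quotientMap_injective, Ideal.quotientMap_surjective hg⟩
  intro x
  letI := Ideal.Quotient.field M
  letI := Ideal.Quotient.field M'
  haveI := ringExpChar.expChar (integralClosure R (FractionRing R) ⧸ M)
  haveI : ExpChar (integralClosure R' (FractionRing R') ⧸ M') (ringExpChar (integralClosure R (FractionRing R) ⧸ M)) :=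
    expChar_of_injective_ringHom r.injective _
  obtain ⟨n, a, ha⟩ := h M hM (r.symm x)
  refine ⟨n, e a, ?_⟩
  rw [ringExpChar.eq _ (ringExpChar (integralClosure R (FractionRing R) ⧸ M))]
  apply r.symm.injective
  rw [map_pow, ← ha]
  refine (r.symm_apply_eq).2 ?_
  show _ = Ideal.Quotient.mk M' (g (algebraMap R (integralClosure R (FractionRing R)) a))
  exact congrArg (Ideal.Quotient.mk M') (Subtype.ext (hf a).symm)

theorem numGeomBranches_eq_one_iff (T : Type u) [CommRing T] [IsDomain T] [HenselianLocalRing T] :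
    Brnch.numGeomBranches T = 1 ↔ PI T := by
  let e : CAlg2.red T ≃+* T :=
    (Ideal.quotEquivOfEq (show nilradical T = ⊥ by rw [nilradical_eq_zero T]; rfl)).trans (RingEquiv.quotientBot T)
  haveI : IsDomain (CAlg2.red T) := e.toMulEquiv.isDomain T
  haveI : HenselianLocalRing (CAlg2.red T) := Groth.Agent.Hensel.henselianLocalRing_of_ringEquiv e.symm
  haveI : Algebra.IsIntegral (CAlg2.red T) (CAlg2.normRed T) := inferInstance
  rw [isGeomUnibranch_iff]
  have hrange : ∀ (m : Ideal (CAlg2.normRed T)),
      ((Ideal.Quotient.mk m).comp ((algebraMap (CAlg2.red T) (CAlg2.normRed T)).comp (Ideal.Quotient.mk (nilradical T)))).range =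
      ((Ideal.Quotient.mk m).comp (algebraMap (CAlg2.red T) (CAlg2.normRed T))).range := fun m => by
    ext x
    constructor
    · rintro ⟨a, rfl⟩; exact ⟨_, rfl⟩
    · rintro ⟨a, rfl⟩
      obtain ⟨a, rfl⟩ := Ideal.Quotient.mk_surjective a
      exact ⟨a, rfl⟩
  refine ⟨fun h => PI_of_ringEquiv e fun m hm x => ?_, fun h => ⟨⟨inferInstance, ?_⟩, fun m hm x => ?_⟩⟩
  · obtain ⟨n, hn⟩ := @h.2 m hm x
    exact ⟨n, hrange m ▸ hn⟩
  · exact Hensel.isLocalRing_of_isIntegral_domain (CAlg2.red T) _
  · obtain ⟨n, hn⟩ := PI_of_ringEquiv e.symm h m hm x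
    exact ⟨n, (hrange m).symm ▸ hn⟩

/-- The components of a reduced ring. -/
noncomputable def comps' (R : Type u) [CommRing R] [IsReduced R] :
    Comps R (fun p : minimalPrimes R => R ⧸ p.1) where
  π p := Ideal.Quotient.mk p.1
  surj p := Ideal.Quotient.mk_surjective
  zero x hx := by
    have h : x ∈ nilradical R := by
      rw [nilradical, Submodule.zero_eq_bot, ← Ideal.sInf_minimalPrimes]
      exact Submodule.mem_sInf.2 fun p hp => Ideal.Quotient.eq_zero_iff_mem.1 (hx ⟨p, hp⟩)
    exact (mem_nilradical.1 h).eq_zero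
  incomp p q hne := by
    obtain ⟨a, haq, hap⟩ := SetLike.not_le_iff_exists.1 fun hle : q.1 ≤ p.1 =>
      hne (Subtype.ext (le_antisymm (p.2.2 q.2.1 hle) hle))
    exact ⟨a, fun h => hap (Ideal.Quotient.eq_zero_iff_mem.1 h), Ideal.Quotient.eq_zero_iff_mem.2 haq⟩

theorem isIntegral_residue {R : Type u} [CommRing R] (M : Ideal (integralClosure R (FractionRing R))) [M.IsMaximal] :
    ((algebraMap (integralClosure R (FractionRing R)) M.ResidueField).comp
      (algebraMap R (integralClosure R (FractionRing R)))).IsIntegral :=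
  RingHom.IsIntegral.trans _ _ (Algebra.IsIntegral.isIntegral (R := R)) (RingHom.isIntegral_of_surjective _ fun y => by
    obtain ⟨z, rfl⟩ := (Ideal.bijective_algebraMap_quotient_residueField M).2 y
    obtain ⟨w, rfl⟩ := Ideal.Quotient.mk_surjective z
    exact ⟨w, by rw [← Ideal.Quotient.algebraMap_eq, ← IsScalarTower.algebraMap_apply]⟩)

/-- Transport of the power condition along a ring isomorphism. -/
theorem pow_mem_iff {R R' X Y : Type*} [CommRing R] [CommRing R'] [CommRing X] [IsDomain X] [CommRing Y] [IsDomain Y]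
    (f : R →+* X) (f' : R' →+* Y) (π : R →+* R') (hπ : Function.Surjective π) (r : X ≃+* Y)
    (hr : ∀ a, r (f a) = f' (π a)) :
    (∀ x : X, ∃ n : ℕ, x ^ (ringExpChar X) ^ n ∈ f.range) ↔ (∀ y : Y, ∃ n : ℕ, y ^ (ringExpChar Y) ^ n ∈ f'.range) := by
  haveI := ringExpChar.expChar X
  haveI : ExpChar Y (ringExpChar X) := expChar_of_injective_ringHom (f := r.toRingHom) r.injective _
  rw [ringExpChar.eq Y (ringExpChar X)]
  constructor
  · intro h y
    obtain ⟨n, a, ha⟩ := h (r.symm y)
    exact ⟨n, π a, by rw [← hr, ha, map_pow, RingEquiv.apply_symm_apply]⟩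
  · intro h x
    obtain ⟨n, a', ha⟩ := h (r x)
    obtain ⟨a, rfl⟩ := hπ a'
    exact ⟨n, a, r.injective (by rw [map_pow, ← ha, hr])⟩

/-- The power condition at corresponding maximal ideals of the normalizations. -/
theorem pow_mem_res {R : Type u} [CommRing R] {ι : Type v} [Finite ι] {D : ι → Type u} [∀ i, CommRing (D i)]
    [∀ i, IsDomain (D i)] (C : Comps R D)
    (pm : Σ i, MaximalSpectrum (integralClosure (D i) (FractionRing (D i)))) :
    (∀ x : integralClosure R (FractionRing R) ⧸ (C.pull pm).asIdeal, ∃ n : ℕ,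
      x ^ (ringExpChar (integralClosure R (FractionRing R) ⧸ (C.pull pm).asIdeal)) ^ n ∈
        ((Ideal.Quotient.mk (C.pull pm).asIdeal).comp (algebraMap R (integralClosure R (FractionRing R)))).range) ↔
    ∀ x : integralClosure (D pm.1) (FractionRing (D pm.1)) ⧸ pm.2.asIdeal, ∃ n : ℕ,
      x ^ (ringExpChar (integralClosure (D pm.1) (FractionRing (D pm.1)) ⧸ pm.2.asIdeal)) ^ n ∈
        ((Ideal.Quotient.mk pm.2.asIdeal).comp
          (algebraMap (D pm.1) (integralClosure (D pm.1) (FractionRing (D pm.1))))).range := by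
  haveI := pm.2.isMaximal
  haveI := (C.pull pm).isMaximal
  haveI : IsDomain (integralClosure (D pm.1) (FractionRing (D pm.1)) ⧸ pm.2.asIdeal) :=
    (Ideal.Quotient.isDomain_iff_prime _).2 pm.2.isMaximal.isPrime
  haveI : IsDomain (integralClosure R (FractionRing R) ⧸ (C.pull pm).asIdeal) :=
    (Ideal.Quotient.isDomain_iff_prime _).2 (C.pull pm).isMaximal.isPrime
  exact pow_mem_iff (X := integralClosure R (FractionRing R) ⧸ (C.pull pm).asIdeal)
    (Y := integralClosure (D pm.1) (FractionRing (D pm.1)) ⧸ pm.2.asIdeal)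
    ((Ideal.Quotient.mk (C.pull pm).asIdeal).comp (algebraMap R (integralClosure R (FractionRing R))))
    ((Ideal.Quotient.mk pm.2.asIdeal).comp
      (algebraMap (D pm.1) (integralClosure (D pm.1) (FractionRing (D pm.1)))))
    (C.π pm.1) (C.surj pm.1) (C.resEquiv pm) fun a => by
      rw [RingHom.comp_apply, Comps.resEquiv_mk, Comps.proj_algebraMap]
      rfl

theorem PI_iff_components (R : Type u) [CommRing R] [IsReduced R] (hfin : (minimalPrimes R).Finite) :
    (∀ (M : Ideal (integralClosure R (FractionRing R))) [M.IsMaximal],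
      separableClosure (Subfield.closure (Set.range ((algebraMap (integralClosure R (FractionRing R)) M.ResidueField).comp
        (algebraMap R (integralClosure R (FractionRing R)))))) M.ResidueField = ⊥) ↔
      ∀ p : minimalPrimes R, PI (R ⧸ p.1) := by
  haveI := hfin.to_subtype
  haveI : ∀ p : minimalPrimes R, IsDomain (R ⧸ p.1) := fun p =>
    haveI : p.1.IsPrime := p.2.1.1
    inferInstance
  let C := comps' R
  have h1 : ∀ (M : Ideal (integralClosure R (FractionRing R))) [M.IsMaximal],
      separableClosure (Subfield.closure (Set.range ((algebraMap (integralClosure R (FractionRing R)) M.ResidueField).comp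
        (algebraMap R (integralClosure R (FractionRing R)))))) M.ResidueField = ⊥ ↔
      ∀ x : integralClosure R (FractionRing R) ⧸ M, ∃ n : ℕ,
        x ^ (ringExpChar (integralClosure R (FractionRing R) ⧸ M)) ^ n ∈
          ((Ideal.Quotient.mk M).comp (algebraMap R (integralClosure R (FractionRing R)))).range := by
    intro M _
    rw [separableClosure_eq_bot_iff _ (isIntegral_residue M)]
    letI := Ideal.Quotient.field M
    let b : integralClosure R (FractionRing R) ⧸ M ≃+* M.ResidueField :=
      RingEquiv.ofBijective _ (Ideal.bijective_algebraMap_quotient_residueField M)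
    haveI := ringExpChar.expChar (integralClosure R (FractionRing R) ⧸ M)
    haveI : ExpChar M.ResidueField (ringExpChar (integralClosure R (FractionRing R) ⧸ M)) :=
      expChar_of_injective_ringHom b.injective _
    rw [ringExpChar.eq M.ResidueField (ringExpChar (integralClosure R (FractionRing R) ⧸ M))]
    have hb : ∀ w, b (Ideal.Quotient.mk M w) = algebraMap _ M.ResidueField w := fun w => by
      show algebraMap _ M.ResidueField (Ideal.Quotient.mk M w) = _
      rw [← Ideal.Quotient.algebraMap_eq, ← IsScalarTower.algebraMap_apply]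
    constructor
    · intro h x
      obtain ⟨n, a, ha⟩ := h (b x)
      exact ⟨n, a, b.injective (by rw [map_pow, ← ha]; exact hb _)⟩
    · intro h y
      obtain ⟨x, rfl⟩ := b.surjective y
      obtain ⟨n, a, ha⟩ := h x
      exact ⟨n, a, by rw [← map_pow, ← ha]; exact (hb _).symm⟩
  have hres := fun pm => pow_mem_res C pm
  constructor
  · intro h p m hm
    exact (hres ⟨p, ⟨m, hm⟩⟩).1 (haveI := (C.pull ⟨p, ⟨m, hm⟩⟩).isMaximal; (h1 _).1 (h _))
  · intro h M hM
    obtain ⟨pm, hpm⟩ := C.pull_bijective.2 ⟨M, hM⟩
    refine (h1 M).2 ?_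
    have := (hres pm).2 (h pm.1 pm.2.asIdeal pm.2.isMaximal)
    rw [hpm] at this
    exact this

end Groth.Agent.EssEtGal7
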