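import Groth.Agent.EtStalk.Normal
import Mathlib

/-! Local rings of an étale base change of a normal domain are domains. -/

set_option autoImplicit false
set_option linter.style.haveILetI false
universe u

open TensorProduct

namespace Groth.Agent.EssEtGal7

theorem isDomain_localization_tensor_etale (A E B : Type u) [CommRing A] [CommRing E] [Algebra A E] [Algebra.Etale A E]
    [CommRing B] [IsDomain B] [IsIntegrallyClosed B] [Algebra A B] (n : Ideal (E ⊗[A] B)) [n.IsPrime] :
    IsDomain (Localization.AtPrime n) := by
  let iR : B →+* E ⊗[A] B := (Algebra.TensorProduct.includeRight : B →ₐ[A] E ⊗[A] B).toRingHom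
  letI : Algebra B (E ⊗[A] B) := iR.toAlgebra
  let e : B ⊗[A] E ≃ₐ[B] E ⊗[A] B :=
    { (Algebra.TensorProduct.comm A B E).toRingEquiv with
      commutes' := fun b => by
        show Algebra.TensorProduct.comm A B E (b ⊗ₜ[A] 1) = iR b
        rw [Algebra.TensorProduct.comm_tmul]
        rfl }
  haveI : Algebra.Etale B (E ⊗[A] B) := Algebra.Etale.of_equiv e
  let L := Localization.AtPrime n
  haveI : Algebra.WeaklyEtale (E ⊗[A] B) L := Groth.Agent.WLocalLib.weaklyEtale_localization n.primeCompl L
  haveI : Algebra.WeaklyEtale B L := Algebra.WeaklyEtale.trans B (E ⊗[A] B) L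
  exact (Groth.Agent.EtStalk.normal_of_weaklyEtale_local B L).1

end Groth.Agent.EssEtGal7
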