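import Groth.Agent.EssEtGal7.Trace
import Groth.Agent.S2654
import Groth.Prelude.Def_EGA4b
import Mathlib

/-! Intersections of a strict henselization with finitely generated subfields. -/

set_option autoImplicit false
set_option linter.style.haveILetI false
universe u

open TensorProduct IsLocalRing

namespace Groth.Agent.EssEtGal7

variable {A S : Type u} [CommRing A] [HenselianLocalRing A] [CommRing S] [IsLocalRing S]
    [Algebra A S] [IsLocalHom (algebraMap A S)] [Hensel.IsStrictHenselization A S]

variable (A S) in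
theorem isIntegral_strict : Algebra.IsIntegral A S := ⟨fun x => by
  obtain ⟨E, _, _, _, _, _, _, j, hj, -, -⟩ := exists_galois_stage A S {x}
  obtain ⟨e, rfl⟩ := hj x (Finset.mem_singleton_self x)
  exact (Algebra.IsIntegral.isIntegral e).map j⟩

/-- `(S/Q) ∩ K(t)` is finite unramified over `A`. -/
theorem exists_inter (hA : EGA4.IsExcellent A) (Q : Ideal S) [Q.IsPrime] (t : Finset (FractionRing (S ⧸ Q))) :
    ∃ D' : Subalgebra A (S ⧸ Q), (D' : Set (S ⧸ Q)) = (algebraMap (S ⧸ Q) (FractionRing (S ⧸ Q))) ⁻¹'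
        (Subfield.closure (Set.range (algebraMap A (FractionRing (S ⧸ Q))) ∪
          (t : Set (FractionRing (S ⧸ Q)))) : Set (FractionRing (S ⧸ Q))) ∧
      Module.Finite A D' ∧ Algebra.FormallyUnramified A D' ∧ IsLocalRing D' := by
  classical
  haveI : IsNoetherianRing A := hA.1
  haveI := isIntegral_strict A S
  let M := FractionRing (S ⧸ Q)
  let L := Subfield.closure (Set.range (algebraMap A M) ∪ (t : Set M))
  have hAL : ∀ a, algebraMap A M a ∈ L := fun a => Subfield.subset_closure (Or.inl ⟨a, rfl⟩)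
  let D' : Subalgebra A (S ⧸ Q) :=
    { L.toSubring.comap (algebraMap (S ⧸ Q) M) with
      algebraMap_mem' := fun a => by
        show algebraMap (S ⧸ Q) M (algebraMap A (S ⧸ Q) a) ∈ L
        rw [← IsScalarTower.algebraMap_apply]
        exact hAL a }
  have hmem : ∀ z, z ∈ D' ↔ algebraMap (S ⧸ Q) M z ∈ L := fun z => Iff.rfl
  refine ⟨D', rfl, ?_⟩
  -- finiteness
  have hfin : Module.Finite A D' := by
    let q := RingHom.ker (algebraMap A M)
    haveI : q.IsPrime := RingHom.ker_isPrime _
    let R := A ⧸ q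
    let g : R →ₐ[A] M := Ideal.Quotient.liftₐ q (Algebra.ofId A M) fun x hx => hx
    have hg : Function.Injective g := fun x y h => by
      obtain ⟨x, rfl⟩ := Ideal.Quotient.mk_surjective x
      obtain ⟨y, rfl⟩ := Ideal.Quotient.mk_surjective y
      refine Ideal.Quotient.eq.2 (RingHom.sub_mem_ker_iff _ |>.2 ?_)
      exact h
    letI : Algebra R M := g.toRingHom.toAlgebra
    haveI : IsScalarTower A R M := IsScalarTower.of_algebraMap_eq fun a => (g.commutes a).symm
    haveI : FaithfulSMul R M := (faithfulSMul_iff_algebraMap_injective R M).2 hg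
    letI : Algebra (FractionRing R) M := FractionRing.liftAlgebra R M
    haveI : IsScalarTower R (FractionRing R) M := FractionRing.isScalarTower_liftAlgebra R M
    let K := FractionRing R
    have hint : ∀ x : M, IsIntegral K x := by
      intro x
      obtain ⟨a, b, -, rfl⟩ := IsFractionRing.div_surjective (A := S ⧸ Q) x
      have h : ∀ c : S ⧸ Q, IsIntegral K (algebraMap (S ⧸ Q) M c) := fun c => by
        obtain ⟨c, rfl⟩ := Ideal.Quotient.mk_surjective c
        have h1 : IsIntegral A (algebraMap (S ⧸ Q) M (Ideal.Quotient.mk Q c)) :=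
          ((Algebra.IsIntegral.isIntegral (R := A) c).map (Ideal.Quotient.mkₐ A Q)).map
            (IsScalarTower.toAlgHom A (S ⧸ Q) M)
        exact (h1.tower_top (A := R)).tower_top
      rw [div_eq_mul_inv]
      exact (h a).mul (h b).inv
    let Lk : IntermediateField K M := IntermediateField.adjoin K (t : Set M)
    haveI : FiniteDimensional K Lk := IntermediateField.finiteDimensional_adjoin fun x _ => hint x
    have hLle : ∀ x ∈ L, x ∈ Lk := by
      intro x hx
      refine (Subfield.closure_le (t := Lk.toSubfield)).2 ?_ hx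
      rintro z (⟨a, rfl⟩ | hz)
      · rw [IsScalarTower.algebraMap_apply A R M, IsScalarTower.algebraMap_apply R K M]
        exact Lk.algebraMap_mem _
      · exact IntermediateField.subset_adjoin K _ hz
    have hN : CAlg.IsNagata A := Groth.Agent.S2654.result A ⟨hA.1, hA.2.2.1, hA.2.2.2⟩
    haveI : Module.Finite R (integralClosure R Lk) := hN.2 q Lk inferInstance
    have hD : ∀ z : D', IsIntegral R (⟨algebraMap (S ⧸ Q) M z.1, hLle _ z.2⟩ : Lk) := fun z => by
      obtain ⟨c, hc⟩ := Ideal.Quotient.mk_surjective (z : S ⧸ Q)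
      have h1 : IsIntegral A (algebraMap (S ⧸ Q) M z.1) := by
        rw [← hc]
        exact ((Algebra.IsIntegral.isIntegral (R := A) c).map (Ideal.Quotient.mkₐ A Q)).map
          (IsScalarTower.toAlgHom A (S ⧸ Q) M)
      exact (isIntegral_algHom_iff (Lk.val.restrictScalars R) Subtype.val_injective).1 (h1.tower_top (A := R))
    let N : Submodule R M := LinearMap.range
      ((Lk.val.restrictScalars R).toLinearMap.comp (integralClosure R Lk).val.toLinearMap)
    have hNfg : N.FG := Module.Finite.iff_fg.1 inferInstance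
    have hN' : (N.restrictScalars A).FG := Submodule.FG.restrictScalars_of_surjective hNfg Ideal.Quotient.mk_surjective
    haveI : Module.Finite A (N.restrictScalars A) := Module.Finite.iff_fg.2 hN'
    let i : D' →ₗ[A] N.restrictScalars A :=
      LinearMap.codRestrict _ ((IsScalarTower.toAlgHom A (S ⧸ Q) M).toLinearMap.comp D'.val.toLinearMap)
        fun z => ⟨⟨_, hD z⟩, rfl⟩
    exact Module.Finite.of_injective i fun z z' h =>
      Subtype.ext (IsFractionRing.injective (S ⧸ Q) M (congrArg Subtype.val h))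
  haveI := hfin
  refine ⟨hfin, ?_⟩
  obtain ⟨G, hG⟩ := Module.Finite.fg_top (R := A) (M := D')
  choose s hs using fun z : D' => Ideal.Quotient.mk_surjective (I := Q) z.1
  obtain ⟨E, _, _, _, _, _, _, j, hj, -, hconj⟩ := exists_galois_stage A S (G.image s)
  let Ω := AlgebraicClosure M
  let ι : (S ⧸ Q) →ₐ[A] Ω := (IsScalarTower.toAlgHom A M Ω).comp (IsScalarTower.toAlgHom A (S ⧸ Q) M)
  have hι : Function.Injective ι := (algebraMap M Ω).injective.comp (IsFractionRing.injective (S ⧸ Q) M)
  let σ₀ : S →ₐ[A] Ω := ι.comp (Ideal.Quotient.mkₐ A Q)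
  have hDE : ∀ z ∈ D', ι z ∈ Set.range (σ₀.comp j) := by
    intro z hz
    have h : (⟨z, hz⟩ : D') ∈ Submodule.span A (G : Set D') := hG ▸ Submodule.mem_top
    have hsub : Submodule.span A (G : Set D') ≤
        ((σ₀.comp j).range.comap (ι.comp D'.val)).toSubmodule := Submodule.span_le.2 fun w hw => by
      obtain ⟨e, he⟩ := hj _ (Finset.mem_image_of_mem s hw)
      exact ⟨e, by
        show σ₀ (j e) = ι w.1
        rw [show j e = s w from he, ← hs w]
        rfl⟩
    exact hsub h
  let LΩ : Subfield Ω := L.map (algebraMap M Ω)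
  have hALΩ : ∀ a, algebraMap A Ω a ∈ LΩ := fun a =>
    ⟨algebraMap A M a, hAL a, (IsScalarTower.algebraMap_apply A M Ω a).symm⟩
  have hset : ((D'.map ι : Subalgebra A Ω) : Set Ω) = Set.range (σ₀.comp j) ∩ LΩ := by
    refine Set.ext fun w => ⟨?_, ?_⟩
    · rintro ⟨z, hz, rfl⟩
      exact ⟨hDE z hz, algebraMap (S ⧸ Q) M z, hz, rfl⟩
    · rintro ⟨⟨e, rfl⟩, l, hl, hle⟩
      refine ⟨Ideal.Quotient.mk Q (j e), ?_, rfl⟩
      show algebraMap (S ⧸ Q) M _ ∈ L
      have : algebraMap (S ⧸ Q) M (Ideal.Quotient.mk Q (j e)) = l := (algebraMap M Ω).injective hle.symm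
      rw [this]
      exact hl
  obtain ⟨-, hunr, hloc⟩ := inter_unramified (σ₀.comp j) (fun τ => hconj Ω σ₀ τ) LΩ hALΩ _ hset
  let eD : D' ≃ₐ[A] (D'.map ι : Subalgebra A Ω) := D'.equivMapOfInjective ι hι
  haveI := hunr
  haveI := hloc
  exact ⟨Algebra.FormallyUnramified.of_equiv eD.symm, eD.symm.toRingEquiv.isLocalRing⟩

end Groth.Agent.EssEtGal7
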