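import Groth.Agent.EssEtGal7.GeomBr
import Groth.Agent.EssEtGal7.Main
import Groth.Agent.BrnchLib.SmoothBranch
import Groth.Agent.BrnchLib.HenzStrict
import Groth.Agent.Hensel.HenselizationDescent
import Groth.Agent.IsoNatLib.SmoothCrit
import Groth.Agent.S0505
import Mathlib

/-! Finite étale subalgebras of a strict henselization and extended minimal primes. -/

set_option autoImplicit false
set_option linter.style.haveILetI false
universe u

open IsLocalRing

namespace Groth.Agent.EssEtGal7

/-- A strict henselization of a local ring is one of each étale local algebra inside it. -/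
theorem isStrictHenselization_of_etale (A E S : Type u) [CommRing A] [IsLocalRing A] [CommRing E] [IsLocalRing E]
    [Algebra A E] [IsLocalHom (algebraMap A E)] [Algebra.Etale A E] [CommRing S] [IsLocalRing S] [Algebra A S]
    [IsLocalHom (algebraMap A S)] [Algebra E S] [IsScalarTower A E S] [IsLocalHom (algebraMap E S)]
    [h : _root_.Hensel.IsStrictHenselization A S] : _root_.Hensel.IsStrictHenselization E S := by
  haveI : IsScalarTower (ResidueField A) (ResidueField E) (ResidueField S) :=
    IsScalarTower.of_algebraMap_eq fun x => by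
      obtain ⟨a, rfl⟩ := residue_surjective x
      exact congrArg (residue S) (IsScalarTower.algebraMap_apply A E S a)
  haveI := h.isSepClosure.separable
  refine ⟨h.henselian, ⟨h.isSepClosure.sep_closed,
    Algebra.isSeparable_tower_top_of_isSeparable (ResidueField A) (ResidueField E) (ResidueField S)⟩,
    fun T _ _ f _ τ hτ => ?_⟩
  have hτ' : ∀ e, τ (residue S (algebraMap E S e)) = residue T (f e) := fun e => RingHom.congr_fun hτ (residue E e)
  haveI : IsLocalHom (f.comp (algebraMap A E)) := RingHom.isLocalHom_comp _ _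
  obtain ⟨g, ⟨hg, hgr⟩, huniq⟩ := h.universal T (f.comp (algebraMap A E)) τ (by
    refine RingHom.ext fun x => ?_
    obtain ⟨a, rfl⟩ := residue_surjective x
    show τ (residue S (algebraMap A S a)) = residue T (f (algebraMap A E a))
    rw [IsScalarTower.algebraMap_apply A E S a, hτ'])
  haveI := henselianRing_max T
  letI : Algebra A T := (f.comp (algebraMap A E)).toAlgebra
  let α : E →ₐ[A] T := { f with commutes' := fun _ => rfl }
  let β : E →ₐ[A] T :=
    { g.comp (algebraMap E S) with
      commutes' := fun a => by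
        show g (algebraMap E S (algebraMap A E a)) = _
        rw [← IsScalarTower.algebraMap_apply]
        exact RingHom.congr_fun hg a }
  have hab : β = α := by
    obtain ⟨l, -, hlu⟩ := Groth.Agent.Hensel.existsUnique_etale_lift_of_algebra (maximalIdeal T)
      ((Ideal.Quotient.mkₐ A (maximalIdeal T)).comp α)
    refine (hlu β (AlgHom.ext fun e => ?_)).trans (hlu α rfl).symm
    show residue T (g (algebraMap E S e)) = residue T (f e)
    rw [hgr, hτ']
  refine ⟨g, ⟨RingHom.ext fun e => congr($hab e), hgr⟩, fun g' hg' => huniq g' ⟨?_, hg'.2⟩⟩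
  refine RingHom.ext fun a => ?_
  show g' (algebraMap A S a) = f (algebraMap A E a)
  rw [IsScalarTower.algebraMap_apply A E S a]
  exact RingHom.congr_fun hg'.1 _

/-- A prime stays prime in the strict henselization when the quotient is geometrically unibranch. -/
theorem isPrime_map_iff_PI (A S : Type u) [CommRing A] [HenselianLocalRing A] [CommRing S] [IsLocalRing S]
    [Algebra A S] [IsLocalHom (algebraMap A S)] [_root_.Hensel.IsStrictHenselization A S]
    (p : Ideal A) [p.IsPrime] :
    (p.map (algebraMap A S)).IsPrime ↔ PI (A ⧸ p) := by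
  have hle : p.map (algebraMap A S) ≤ maximalIdeal S := Ideal.map_le_iff_le_comap.2
    ((IsLocalRing.le_maximalIdeal (Ideal.IsPrime.ne_top ‹_›)).trans (le_of_eq (IsLocalRing.maximalIdeal_comap _).symm))
  have hne : p.map (algebraMap A S) ≠ ⊤ := fun h => (maximalIdeal.isMaximal S).ne_top (top_le_iff.1 (h ▸ hle))
  haveI : Nontrivial (S ⧸ p.map (algebraMap A S)) := Ideal.Quotient.nontrivial_iff.2 hne
  haveI : IsLocalRing (S ⧸ p.map (algebraMap A S)) := IsLocalRing.of_surjective' _ Ideal.Quotient.mk_surjective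
  haveI : HenselianLocalRing (A ⧸ p) := IsoNatLib.henselianLocalRing_quotient p (Ideal.IsPrime.ne_top ‹_›)
  haveI : IsLocalHom (algebraMap (A ⧸ p) (S ⧸ p.map (algebraMap A S))) := ⟨fun x hx => by
    obtain ⟨a, rfl⟩ := Ideal.Quotient.mk_surjective x
    haveI : IsLocalHom (Ideal.Quotient.mk (p.map (algebraMap A S))) := .of_surjective _ Ideal.Quotient.mk_surjective
    exact ((isUnit_map_iff (algebraMap A S) a).1 ((isUnit_map_iff (Ideal.Quotient.mk _) _).1 hx)).map _⟩
  haveI := BrnchLib.isStrictHenselization_quotient (S := S) p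
  haveI : IsReduced (S ⧸ p.map (algebraMap A S)) :=
    ((Groth.Agent.Hensel.isHenzLike_of_isStrictHenselization (A ⧸ p) (S ⧸ p.map (algebraMap A S))).isReduced_iff).1
      inferInstance
  rw [← numGeomBranches_eq_one_iff, ← BrnchLib.card_minimalPrimes_strictHenselization (A ⧸ p)
    (S ⧸ p.map (algebraMap A S)), ENat.card_eq_one_iff_unique, ← Ideal.Quotient.isDomain_iff_prime]
  constructor
  · intro h
    refine ⟨⟨⟨⟨⊥, ?_⟩⟩, fun P => Subtype.ext ?_⟩⟩
    · exact ⟨⟨Ideal.isPrime_bot, bot_le⟩, fun _ _ _ => bot_le⟩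
    · exact le_antisymm (P.2.2 ⟨Ideal.isPrime_bot, le_rfl⟩ bot_le) bot_le
  · rintro ⟨hu⟩
    have h0 : hu.default.1 = ⊥ := by
      have hnil : nilradical (S ⧸ p.map (algebraMap A S)) = ⊥ := nilradical_eq_zero _
      rw [← hnil, nilradical, Submodule.zero_eq_bot, ← Ideal.sInf_minimalPrimes]
      exact le_antisymm (le_sInf fun P hP => le_of_eq (congrArg Subtype.val (hu.uniq ⟨P, hP⟩)).symm) (sInf_le hu.default.2)
    haveI : (⊥ : Ideal (S ⧸ p.map (algebraMap A S))).IsPrime := h0 ▸ hu.default.2.1.1
    exact IsDomain.of_bot_isPrime _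

variable {A S : Type u} [CommRing A] [HenselianLocalRing A] [CommRing S] [IsLocalRing S]
    [Algebra A S] [IsLocalHom (algebraMap A S)] [_root_.Hensel.IsStrictHenselization A S]

theorem isReduced_strict (A S : Type u) [CommRing A] [IsLocalRing A] [CommRing S] [IsLocalRing S]
    [Algebra A S] [IsLocalHom (algebraMap A S)] [_root_.Hensel.IsStrictHenselization A S] [IsReduced A] :
    IsReduced S :=
  (Groth.Agent.Hensel.isHenzLike_of_isStrictHenselization A S).isReduced_iff.1 inferInstance

theorem isLocalRing_subalgebra (D : Subalgebra A S) :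
    IsLocalRing D ∧ IsLocalHom (algebraMap D S) ∧ IsLocalHom (algebraMap A D) := by
  haveI := isIntegral_strict A S
  haveI : Algebra.IsIntegral D S := Algebra.IsIntegral.tower_top (R := A)
  have hinj : Function.Injective (algebraMap D S) := Subtype.val_injective
  have hmax : ∀ P : Ideal D, P.IsMaximal → P = (maximalIdeal S).comap (algebraMap D S) := fun P hP => by
    obtain ⟨Q, hQ, hQP⟩ := Ideal.exists_ideal_over_maximal_of_isIntegral (S := S) P
      (by rw [(RingHom.injective_iff_ker_eq_bot _).1 hinj]; exact bot_le)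
    rw [← IsLocalRing.eq_maximalIdeal hQ, hQP]
  obtain ⟨P, hP⟩ := Ideal.exists_maximal D
  haveI : IsLocalRing D := IsLocalRing.of_unique_max_ideal ⟨P, hP, fun P' hP' => (hmax P' hP').trans (hmax P hP).symm⟩
  haveI hloc : IsLocalHom (algebraMap D S) := ⟨fun d hd => by
    by_contra h
    have : d ∈ maximalIdeal D := h
    rw [hmax _ (maximalIdeal.isMaximal D)] at this
    exact this hd⟩
  exact ⟨inferInstance, hloc, ⟨fun a ha => by
    have := ha.map (algebraMap D S)
    rw [← IsScalarTower.algebraMap_apply] at this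
    exact (isUnit_map_iff (algebraMap A S) a).1 this⟩⟩

theorem comap_mem_minimalPrimes_subalgebra (D : Subalgebra A S) {Q : Ideal S} (hQ : Q ∈ minimalPrimes S) :
    Q.comap (algebraMap D S) ∈ minimalPrimes D := by
  haveI := isIntegral_strict A S
  haveI : Q.IsPrime := hQ.1.1
  haveI : Algebra.IsIntegral A D := ⟨fun x => (isIntegral_algHom_iff D.val Subtype.val_injective).1
    (Algebra.IsIntegral.isIntegral (R := A) (x : S))⟩
  obtain ⟨p, hp, hle⟩ := Ideal.exists_minimalPrimes_le (bot_le : (⊥ : Ideal D) ≤ Q.comap (algebraMap D S))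
  haveI := hp.1.1
  rcases hle.eq_or_lt with h | h
  · exact h ▸ hp
  · have h1 := (BrnchLib.mem_minimalPrimes_iff_comap (Groth.Agent.Hensel.isHenzLike_of_isStrictHenselization A S)).1 hQ
    have h2 : (Q.comap (algebraMap A S)) ≤ p.comap (algebraMap A D) := h1.2 ⟨Ideal.IsPrime.comap _, bot_le⟩ (by
      rw [IsScalarTower.algebraMap_eq A D S, ← Ideal.comap_comap]
      exact Ideal.comap_mono hle)
    rw [IsScalarTower.algebraMap_eq A D S, ← Ideal.comap_comap] at h2
    exact absurd h2 (not_le_of_gt (Ideal.IsIntegral.comap_lt_comap h))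

theorem sub_mem_of_PI (hA : EGA4.IsExcellent A) (D : Subalgebra A S) [Module.Finite A D] [IsLocalRing D]
    [IsLocalHom (algebraMap D S)] {E : Type u} [CommRing E] [Algebra A E] (φ : E →ₐ[A] D)
    (hφ : ∀ d : D, ∃ e : E, d - φ e ∈ maximalIdeal D)
    (hPI : ∀ p : minimalPrimes D, PI (D ⧸ p.1)) {Q : Ideal S} (hQ : Q ∈ minimalPrimes S) (d₀ : D) :
    ∃ e : E, algebraMap D S (d₀ - φ e) ∈ Q := by
  classical
  haveI : Q.IsPrime := hQ.1.1
  let p : Ideal D := Q.comap (algebraMap D S)
  haveI : p.IsPrime := Ideal.IsPrime.comap _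
  have hpi : PI (D ⧸ p) := hPI ⟨p, comap_mem_minimalPrimes_subalgebra D hQ⟩
  let M := FractionRing (S ⧸ Q)
  let π : D →ₐ[A] S ⧸ Q := (Ideal.Quotient.mkₐ A Q).comp D.val
  obtain ⟨G, hG⟩ := Module.Finite.fg_top (R := A) (M := D)
  let t : Finset M := G.image fun g => algebraMap (S ⧸ Q) M (π g)
  let L := Subfield.closure (Set.range (algebraMap A M) ∪ (t : Set M))
  obtain ⟨D', hD', hfin, hunr, hloc⟩ := exists_inter hA Q t
  haveI := hfin
  haveI := hunr
  haveI := hloc
  have hmem : ∀ z : S ⧸ Q, z ∈ D' ↔ algebraMap (S ⧸ Q) M z ∈ L := fun z => by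
    rw [← SetLike.mem_coe, hD']; rfl
  have hπ : ∀ d, π d ∈ D' := fun d => by
    have hd : d ∈ Submodule.span A (G : Set D) := hG ▸ Submodule.mem_top
    induction hd using Submodule.span_induction with
    | mem x hx => exact (hmem _).2 (Subfield.subset_closure (Or.inr (Finset.mem_image_of_mem _ hx)))
    | zero => rw [map_zero]; exact zero_mem _
    | add x y _ _ hx hy => rw [map_add]; exact add_mem hx hy
    | smul a x _ hx => rw [map_smul]; exact D'.smul_mem hx a
  let ι : D →ₐ[A] D' := π.codRestrict D' hπ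
  haveI hιloc : IsLocalHom ι.toRingHom := ⟨fun d hd => by
    have h : IsUnit (Ideal.Quotient.mk Q (d : S)) := hd.map D'.val
    haveI : IsLocalHom (Ideal.Quotient.mk Q) := .of_surjective _ Ideal.Quotient.mk_surjective
    exact (isUnit_map_iff (algebraMap D S) d).1 ((isUnit_map_iff (Ideal.Quotient.mk Q) (d : S)).1 h)⟩
  -- the intersection lies in the normalization of `D ⧸ p`
  let ψ : D ⧸ p →+* S ⧸ Q := Ideal.quotientMap Q (algebraMap D S) le_rfl
  have hψinj : Function.Injective ((algebraMap (S ⧸ Q) M).comp ψ) :=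
    (IsFractionRing.injective (S ⧸ Q) M).comp Ideal.quotientMap_injective
  let K := FractionRing (D ⧸ p)
  let ψK : K →+* M := IsFractionRing.lift hψinj
  have hψK : ∀ d : D, ψK (algebraMap (D ⧸ p) K (Ideal.Quotient.mk p d)) = algebraMap (S ⧸ Q) M (π d) := fun d =>
    IsFractionRing.lift_algebraMap hψinj _
  have hψA : ∀ a : A, ψK (algebraMap A K a) = algebraMap A M a := fun a => by
    rw [IsScalarTower.algebraMap_apply A D' M a, IsScalarTower.algebraMap_apply A (D ⧸ p) K a,
      show algebraMap A (D ⧸ p) a = Ideal.Quotient.mk p (algebraMap A D a) from rfl, hψK, AlgHom.commutes]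
    exact (IsScalarTower.algebraMap_apply A (S ⧸ Q) M a).symm
  have hL : L ≤ ψK.fieldRange := Subfield.closure_le.2 (by
    rintro x (⟨a, rfl⟩ | hx)
    · exact ⟨_, hψA a⟩
    · obtain ⟨g, -, rfl⟩ := Finset.mem_image.1 (Finset.mem_coe.1 hx)
      exact ⟨_, hψK g⟩)
  let eK : K ≃+* ψK.fieldRange := RingEquiv.ofBijective ψK.rangeRestrictField
    ⟨fun x y h => ψK.injective (congrArg Subtype.val h), fun ⟨_, x, rfl⟩ => ⟨x, rfl⟩⟩
  let f₀ : D' →+* K := eK.symm.toRingHom.comp
    (((algebraMap (S ⧸ Q) M).comp D'.val.toRingHom).codRestrict ψK.fieldRange fun z => hL ((hmem _).1 z.2))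
  have hf₀ : ∀ z : D', ψK (f₀ z) = algebraMap (S ⧸ Q) M z.1 := fun z =>
    congrArg Subtype.val (eK.apply_symm_apply _)
  haveI : Algebra.IsIntegral A D' := Algebra.IsIntegral.of_finite A D'
  let f₁ : D' →ₐ[A] K :=
    { f₀ with
      commutes' := fun a => ψK.injective (by
        show ψK (f₀ (algebraMap A D' a)) = _
        rw [hf₀, hψA]
        exact (IsScalarTower.algebraMap_apply A (S ⧸ Q) M a).symm) }
  let B := integralClosure (D ⧸ p) K
  let f : D' →+* B := f₀.codRestrict B fun z => ((Algebra.IsIntegral.isIntegral (R := A) z).map f₁).tower_top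
  have hfι : f.comp ι.toRingHom = (algebraMap (D ⧸ p) B).comp (Ideal.Quotient.mk p) :=
    RingHom.ext fun d => Subtype.ext (ψK.injective (by
      show ψK (f₀ (ι d)) = ψK (algebraMap (D ⧸ p) K (Ideal.Quotient.mk p d))
      rw [hf₀, hψK]
      rfl))
  have hfint : f.IsIntegral := RingHom.IsIntegral.tower_top ι.toRingHom f (by
    rw [hfι]
    exact (RingHom.isIntegral_of_surjective _ Ideal.Quotient.mk_surjective).trans _ _
      (Algebra.IsIntegral.isIntegral (R := D ⧸ p) (A := B)))
  have hfinj : Function.Injective f := fun x y h => Subtype.ext (IsFractionRing.injective (S ⧸ Q) M (by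
    rw [← hf₀, ← hf₀, show f₀ x = f₀ y from congrArg Subtype.val h]))
  letI : Algebra D' B := f.toAlgebra
  haveI : Algebra.IsIntegral D' B := ⟨hfint⟩
  obtain ⟨N, hN, hNm⟩ := Ideal.exists_ideal_over_maximal_of_isIntegral (S := B) (maximalIdeal D')
    (by rw [show algebraMap D' B = f from rfl, (RingHom.injective_iff_ker_eq_bot f).1 hfinj]; exact bot_le)
  -- residue fields
  haveI : IsLocalHom (algebraMap A D') := ⟨fun a ha => by
    have h := ha.map D'.val
    rw [AlgHom.commutes] at h
    haveI : IsLocalHom (Ideal.Quotient.mk Q) := .of_surjective _ Ideal.Quotient.mk_surjective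
    exact (isUnit_map_iff (algebraMap A S) a).1 ((isUnit_map_iff (Ideal.Quotient.mk Q) _).1 h)⟩
  haveI : IsLocalHom (algebraMap A D) := (isLocalRing_subalgebra D).2.2
  haveI : IsNoetherianRing A := hA.1
  haveI : Algebra.EssFiniteType A D' := inferInstance
  obtain ⟨hsep, hm⟩ := Algebra.FormallyUnramified.iff_map_maximalIdeal_eq.1 hunr
  letI : Algebra (ResidueField D) (ResidueField D') := (ResidueField.map ι.toRingHom).toAlgebra
  haveI : IsScalarTower (ResidueField A) (ResidueField D) (ResidueField D') :=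
    IsScalarTower.of_algebraMap_eq fun x => by
      obtain ⟨a, rfl⟩ := residue_surjective x
      exact congrArg (residue D') (ι.commutes a).symm
  haveI := hsep
  haveI : Algebra.IsSeparable (ResidueField D) (ResidueField D') :=
    Algebra.isSeparable_tower_top_of_isSeparable (ResidueField A) (ResidueField D) (ResidueField D')
  letI := Ideal.Quotient.field N
  let g : ResidueField D' →+* B ⧸ N := Ideal.Quotient.lift (maximalIdeal D') ((Ideal.Quotient.mk N).comp f)
    fun z hz => Ideal.Quotient.eq_zero_iff_mem.2 (by rw [← hNm] at hz; exact hz)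
  haveI : IsPurelyInseparable (ResidueField D) (ResidueField D') := by
    haveI := ringExpChar.expChar (B ⧸ N)
    haveI : ExpChar (ResidueField D') (ringExpChar (B ⧸ N)) := g.expChar g.injective _
    haveI : ExpChar (ResidueField D) (ringExpChar (B ⧸ N)) :=
      (algebraMap (ResidueField D) (ResidueField D')).expChar (algebraMap (ResidueField D) (ResidueField D')).injective _
    rw [isPurelyInseparable_iff_pow_mem (ResidueField D) (ringExpChar (B ⧸ N))]
    intro x
    obtain ⟨n, a, ha⟩ := hpi N hN (g x)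
    obtain ⟨d, rfl⟩ := Ideal.Quotient.mk_surjective a
    refine ⟨n, residue D d, g.injective ?_⟩
    rw [map_pow, ← ha]
    show Ideal.Quotient.mk N (f (ι.toRingHom d)) = _
    rw [← RingHom.comp_apply f, hfι]
    rfl
  have hres := IsPurelyInseparable.surjective_algebraMap_of_isSeparable (ResidueField D) (ResidueField D')
  -- Nakayama
  let ρ : E →ₐ[A] D' := ι.comp φ
  have htop : (⊤ : Submodule A D') ≤ LinearMap.range ρ.toLinearMap := by
    refine Submodule.le_of_le_smul_of_le_jacobson_bot Module.Finite.fg_top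
      (IsLocalRing.jacobson_eq_maximalIdeal ⊥ bot_ne_top).ge fun z _ => ?_
    obtain ⟨w, hw⟩ := hres (residue D' z)
    obtain ⟨d, rfl⟩ := residue_surjective w
    obtain ⟨e, he⟩ := hφ d
    have h2 : z - ρ e ∈ maximalIdeal D' := by
      rw [← residue_eq_zero_iff, map_sub, sub_eq_zero, ← hw]
      show residue D' (ι d) = residue D' (ι (φ e))
      rw [← sub_eq_zero, ← map_sub, residue_eq_zero_iff, ← map_sub]
      exact map_nonunit ι.toRingHom (d - φ e) he
    refine Submodule.mem_sup.2 ⟨ρ e, ⟨e, rfl⟩, z - ρ e, ?_, add_sub_cancel _ _⟩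
    rw [Ideal.smul_top_eq_map, Submodule.restrictScalars_mem, hm]
    exact h2
  obtain ⟨e, he⟩ := htop (Submodule.mem_top : ι d₀ ∈ _)
  refine ⟨e, Ideal.Quotient.eq_zero_iff_mem.1 ?_⟩
  rw [map_sub, map_sub, sub_eq_zero]
  exact congrArg Subtype.val he.symm

/-- A finite étale local algebra with the residue field of `D` fills `D`. -/
theorem bijective_and_extended_of_PI [IsReduced A] (hA : EGA4.IsExcellent A) (D : Subalgebra A S) [Module.Finite A D]
    [IsLocalRing D] [IsLocalHom (algebraMap D S)] {E : Type u} [CommRing E] [IsLocalRing E] [Algebra A E]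
    [IsLocalHom (algebraMap A E)] [Module.Finite A E] [Algebra.Etale A E] (φ : E →ₐ[A] D)
    [IsLocalHom φ.toRingHom]
    (hφ : ∀ d : D, ∃ e : E, d - φ e ∈ maximalIdeal D) (hPI : ∀ p : minimalPrimes D, PI (D ⧸ p.1)) :
    Function.Bijective φ ∧
      ∀ Q ∈ minimalPrimes S, Q = Ideal.map (algebraMap D S) (Q.comap (algebraMap D S)) := by
  classical
  letI : Algebra E S := ((algebraMap D S).comp φ.toRingHom).toAlgebra
  haveI : IsLocalHom (algebraMap E S) := RingHom.isLocalHom_comp _ _
  haveI : IsScalarTower A E S := IsScalarTower.of_algebraMap_eq fun a => by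
    show algebraMap A S a = algebraMap D S (φ (algebraMap A E a))
    rw [φ.commutes, ← IsScalarTower.algebraMap_apply]
  haveI := isStrictHenselization_of_etale A E S
  haveI : HenselianLocalRing E := Groth.Agent.S0505.result A E
  haveI := Groth.Agent.Hensel.faithfullyFlat_of_isStrictHenselization (R := E) (S := S)
  haveI : IsNoetherianRing A := hA.1
  haveI : IsNoetherianRing E := IsNoetherianRing.of_finite A E
  have hinj : Function.Injective (algebraMap E S) := FaithfulSMul.algebraMap_injective E S
  haveI : IsReduced S := isReduced_strict A S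
  haveI : IsReduced E := isReduced_of_injective (algebraMap E S) hinj
  have hH := Groth.Agent.Hensel.isHenzLike_of_isStrictHenselization E S
  have happrox := fun (Q : Ideal S) (hQ : Q ∈ minimalPrimes S) => sub_mem_of_PI hA D φ hφ hPI hQ
  have hext : ∀ Q ∈ minimalPrimes S, Q = (Q.comap (algebraMap E S)).map (algebraMap E S) := fun Q hQ => by
    haveI : Q.IsPrime := hQ.1.1
    let q := Q.comap (algebraMap E S)
    haveI : q.IsPrime := Ideal.IsPrime.comap _
    have hq : PI (E ⧸ q) := by
      let p := Q.comap (algebraMap D S)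
      let r : E ⧸ q ≃+* D ⧸ p := RingEquiv.ofBijective (Ideal.quotientMap p φ.toRingHom le_rfl)
        ⟨Ideal.quotientMap_injective, fun x => by
          obtain ⟨d, rfl⟩ := Ideal.Quotient.mk_surjective x
          obtain ⟨e, he⟩ := happrox Q hQ d
          exact ⟨Ideal.Quotient.mk _ e, (Ideal.Quotient.eq.2 (show d - φ e ∈ p from he)).symm⟩⟩
      exact PI_of_ringEquiv r.symm (hPI ⟨p, comap_mem_minimalPrimes_subalgebra D hQ⟩)
    haveI := (isPrime_map_iff_PI E S q).2 hq
    exact le_antisymm (hQ.2 ⟨inferInstance, bot_le⟩ Ideal.map_comap_le) Ideal.map_comap_le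
  refine ⟨⟨fun x y h => hinj (congrArg (algebraMap D S) h), fun d => ?_⟩, fun Q hQ => le_antisymm ?_ Ideal.map_comap_le⟩
  · have hfin : (minimalPrimes E).Finite := minimalPrimes.finite_of_isNoetherianRing E
    haveI := hfin.to_subtype
    haveI := Fintype.ofFinite (minimalPrimes E)
    haveI : ∀ q : minimalPrimes E, IsDomain (E ⧸ q.1) := fun q =>
      haveI : q.1.IsPrime := q.2.1.1
      inferInstance
    choose s hs hs' using (comps' E).exists_sep
    choose Qq hQq hQqc using fun q : minimalPrimes E => BrnchLib.exists_minimalPrimes_over hH q.2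
    choose e he using fun q : minimalPrimes E => happrox (Qq q) (hQq q) d
    let a : E := ∑ q, s q * e q
    let b : E := ∑ q, s q
    have key : ∀ Q ∈ minimalPrimes S,
        algebraMap E S b * (d : S) - algebraMap E S a ∈ Q ∧ algebraMap E S b ∉ Q := by
      intro Q hQ
      haveI : Q.IsPrime := hQ.1.1
      let q : minimalPrimes E := ⟨Q.comap (algebraMap E S), (BrnchLib.mem_minimalPrimes_iff_comap hH).1 hQ⟩
      have hQe : Qq q = Q := by rw [hext _ (hQq q), hQqc q]; exact (hext Q hQ).symm
      have hoff : ∀ q', q' ≠ q → algebraMap E S (s q') ∈ Q := fun q' hne =>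
        show s q' ∈ q.1 from Ideal.Quotient.eq_zero_iff_mem.1 (hs' q' q hne.symm)
      have hq : algebraMap E S (s q) ∉ Q := fun h => hs q (Ideal.Quotient.eq_zero_iff_mem.2 h)
      constructor
      · simp only [a, b, map_sum, Finset.sum_mul, ← Finset.sum_sub_distrib, map_mul, ← mul_sub]
        refine Ideal.sum_mem _ fun q' _ => ?_
        rcases eq_or_ne q' q with rfl | hne
        · refine Ideal.mul_mem_left _ _ ?_
          have h := he q
          rw [hQe, map_sub] at h
          exact h
        · exact Ideal.mul_mem_right _ _ (hoff q' hne)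
      · intro h
        replace h : algebraMap E S b ∈ Q := h
        refine hq ?_
        rw [show s q = b - ∑ q' ∈ Finset.univ.erase q, s q' by
          rw [eq_sub_iff_add_eq, Finset.add_sum_erase _ _ (Finset.mem_univ q)], map_sub]
        refine sub_mem h ?_
        rw [map_sum]
        exact Ideal.sum_mem _ fun q' hq' => hoff q' (Finset.ne_of_mem_erase hq')
    have hzero : ∀ x : S, (∀ Q ∈ minimalPrimes S, x ∈ Q) → x = 0 := fun x hx => by
      have : x ∈ nilradical S := by
        rw [nilradical, Submodule.zero_eq_bot, ← Ideal.sInf_minimalPrimes]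
        exact Submodule.mem_sInf.2 hx
      exact (mem_nilradical.1 this).eq_zero
    have hbd : algebraMap E S a = algebraMap E S b * (d : S) :=
      (sub_eq_zero.1 (hzero _ fun Q hQ => (key Q hQ).1)).symm
    have hab : a ∈ ((Ideal.span {b}).map (algebraMap E S)).comap (algebraMap E S) := by
      rw [Ideal.mem_comap, Ideal.map_span, Set.image_singleton, hbd, mul_comm]
      exact Ideal.mem_span_singleton'.2 ⟨_, rfl⟩
    rw [Ideal.comap_map_eq_self_of_faithfullyFlat] at hab
    obtain ⟨c, hc⟩ := Ideal.mem_span_singleton'.1 hab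
    refine ⟨c, Subtype.ext ?_⟩
    refine sub_eq_zero.1 (hzero _ fun Q hQ => ?_)
    haveI : Q.IsPrime := hQ.1.1
    refine (Ideal.IsPrime.mem_or_mem inferInstance ?_).resolve_left (key Q hQ).2
    show algebraMap E S b * (algebraMap E S c - (d : S)) ∈ Q
    rw [mul_sub, ← map_mul, mul_comm b c, hc, hbd, sub_self]
    exact Q.zero_mem
  · conv_lhs => rw [hext Q hQ]
    rw [show algebraMap E S = (algebraMap D S).comp φ.toRingHom from rfl, ← Ideal.map_map, ← Ideal.comap_comap]
    exact Ideal.map_mono Ideal.map_comap_le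

end Groth.Agent.EssEtGal7
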