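import Groth.Agent.EtAlg7.EssEtale
import Groth.Agent.Hensel.EtaleResidueExt
import Groth.Agent.EssEtGal7.GeomEt
import Mathlib

/-! An essentially étale local algebra inside a strict henselization of a henselian ring is finite étale. -/

set_option autoImplicit false
set_option linter.style.haveILetI false
universe u

open IsLocalRing

namespace Groth.Agent.EssEtGal7

theorem finite_etale_of_essEtale (A E S : Type u) [CommRing A] [HenselianLocalRing A] [IsNoetherianRing A]
    [CommRing E] [IsLocalRing E] [Algebra A E] [IsLocalHom (algebraMap A E)] (hE : EGA4loc.IsEssentiallyEtale A E)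
    [CommRing S] [IsLocalRing S] [Algebra A S] [IsLocalHom (algebraMap A S)] [_root_.Hensel.IsStrictHenselization A S]
    [Algebra E S] [IsScalarTower A E S] [IsLocalHom (algebraMap E S)] :
    Module.Finite A E ∧ Algebra.Etale A E := by
  haveI := EtAlg7.formallyUnramified hE
  haveI := EtAlg7.essFiniteType hE
  obtain ⟨hsep, -⟩ := Algebra.FormallyUnramified.iff_map_maximalIdeal_eq.1 (inferInstance : Algebra.FormallyUnramified A E)
  haveI := hsep
  obtain ⟨E₀, _, _, _, _, hfin, hEt, ⟨e⟩⟩ :=
    Groth.Agent.Hensel.exists_finite_etale_residueField A (ResidueField E)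
  haveI := hfin
  haveI := hEt
  haveI : HenselianLocalRing E₀ := Groth.Agent.S0505.result A E₀
  obtain ⟨ψ, hψ, -⟩ := EtAlg7.existsUnique_algHom hE (B := E₀) (e.symm : ResidueField E →+* ResidueField E₀) fun a => by
    exact e.symm.commutes (residue A a)
  -- a point of `E₀` in `S` compatible with the one of `E`
  haveI := _root_.Hensel.IsStrictHenselization.henselian (R := A) (S := S)
  haveI := henselianRing_max S
  let θ : E₀ →ₐ[A] S ⧸ maximalIdeal S :=
    { ((ResidueField.map (algebraMap E S)).comp (e : ResidueField E₀ →+* ResidueField E)).comp (residue E₀) with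
      commutes' := fun a => by
        show ResidueField.map (algebraMap E S) (e (residue E₀ (algebraMap A E₀ a))) = residue S (algebraMap A S a)
        rw [show residue E₀ (algebraMap A E₀ a) = algebraMap (ResidueField A) (ResidueField E₀) (residue A a) from rfl,
          e.commutes, IsScalarTower.algebraMap_apply A E S a]
        rfl }
  obtain ⟨j, hj, -⟩ := Groth.Agent.Hensel.existsUnique_etale_lift_of_algebra (maximalIdeal S) θ
  have hcomp : j.comp ψ = IsScalarTower.toAlgHom A E S := by
    refine EtAlg7.algHom_ext_residue hE _ _ fun x => ?_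
    show residue S (j (ψ x)) = residue S (algebraMap E S x)
    rw [show residue S (j (ψ x)) = θ (ψ x) from congr($hj (ψ x))]
    show ResidueField.map (algebraMap E S) (e (residue E₀ (ψ x))) = _
    rw [hψ]
    show ResidueField.map (algebraMap E S) (e (e.symm (residue E x))) = _
    rw [AlgEquiv.apply_symm_apply, ResidueField.map_residue]
  have hinj : Function.Injective ψ := fun x y h => by
    have h1 := congrArg j h
    rw [← AlgHom.comp_apply, ← AlgHom.comp_apply, hcomp] at h1
    haveI := Groth.Agent.Hensel.faithfullyFlat_of_isStrictHenselization (R := A) (S := S)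
    haveI : Module.Flat E S := Algebra.FormallyUnramified.flat_of_restrictScalars A E S
    haveI : Module.FaithfullyFlat E S := Module.FaithfullyFlat.of_flat_of_isLocalHom
    exact FaithfulSMul.algebraMap_injective E S h1
  have hsurj : Function.Surjective ψ := by
    have htop : (⊤ : Submodule A E₀) ≤ LinearMap.range ψ.toLinearMap := by
      refine Submodule.le_of_le_smul_of_le_jacobson_bot Module.Finite.fg_top
        (IsLocalRing.jacobson_eq_maximalIdeal ⊥ bot_ne_top).ge fun z _ => ?_
      obtain ⟨x, hx⟩ := residue_surjective (e (residue E₀ z))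
      have h2 : z - ψ x ∈ maximalIdeal E₀ := by
        rw [← residue_eq_zero_iff, map_sub, hψ, hx]
        exact sub_eq_zero.2 (e.symm_apply_apply _).symm
      refine Submodule.mem_sup.2 ⟨ψ x, ⟨x, rfl⟩, z - ψ x, ?_, add_sub_cancel _ _⟩
      rw [Ideal.smul_top_eq_map, Submodule.restrictScalars_mem, Algebra.FormallyUnramified.map_maximalIdeal]
      exact h2
    exact fun z => htop Submodule.mem_top
  let φ := (AlgEquiv.ofBijective ψ ⟨hinj, hsurj⟩).symm
  exact ⟨Module.Finite.equiv φ.toLinearEquiv, Algebra.Etale.of_equiv φ⟩

end Groth.Agent.EssEtGal7
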