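import Groth.Agent.EssEtGal7.GeomEt
import Groth.Agent.BrnchLib.NormBij
import Groth.Agent.Hensel.HenselizationProps
import Mathlib

/-! Geometric branches against branches, through the henselizations. -/

set_option autoImplicit false
set_option linter.style.haveILetI false
universe u

open IsLocalRing

namespace Groth.Agent.EssEtGal7

section tower

variable (A Ah Ash : Type u) [CommRing A] [IsLocalRing A]
  [CommRing Ah] [IsLocalRing Ah] [Algebra A Ah] [IsLocalHom (algebraMap A Ah)] [hh : _root_.Hensel.IsHenselization A Ah]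
  [CommRing Ash] [IsLocalRing Ash] [Algebra A Ash] [IsLocalHom (algebraMap A Ash)]
  [hs : _root_.Hensel.IsStrictHenselization A Ash] [Algebra Ah Ash] [IsScalarTower A Ah Ash]

include hh hs

theorem isLocalHom_henselization_to_strict : IsLocalHom (algebraMap Ah Ash) := by
  refine ((local_hom_TFAE (algebraMap Ah Ash)).out 0 2 rfl rfl).2 ?_
  rw [← Groth.Agent.Hensel.map_maximalIdeal_of_isHenselization (R := A) (S := Ah), Ideal.map_map, ← IsScalarTower.algebraMap_eq]
  exact ((local_hom_TFAE (algebraMap A Ash)).out 0 2 rfl rfl).1 inferInstance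

/-- A strict henselization of a local ring is one of its henselization. -/
theorem isStrictHenselization_of_henselization [IsLocalHom (algebraMap Ah Ash)] :
    _root_.Hensel.IsStrictHenselization Ah Ash := by
  haveI : IsScalarTower (ResidueField A) (ResidueField Ah) (ResidueField Ash) :=
    IsScalarTower.of_algebraMap_eq fun x => by
      obtain ⟨a, rfl⟩ := residue_surjective x
      exact congrArg (residue Ash) (IsScalarTower.algebraMap_apply A Ah Ash a)
  haveI := hs.isSepClosure.separable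
  refine ⟨hs.henselian, ⟨hs.isSepClosure.sep_closed,
    Algebra.isSeparable_tower_top_of_isSeparable (ResidueField A) (ResidueField Ah) (ResidueField Ash)⟩,
    fun T _ _ f _ τ hτ => ?_⟩
  haveI hl : IsLocalHom (f.comp (algebraMap A Ah)) := RingHom.isLocalHom_comp _ _
  obtain ⟨g, ⟨hg, hgr⟩, huniq⟩ := hs.universal T (f.comp (algebraMap A Ah)) τ (by
    refine RingHom.ext fun x => ?_
    obtain ⟨a, rfl⟩ := residue_surjective x
    show τ (residue Ash (algebraMap A Ash a)) = residue T (f (algebraMap A Ah a))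
    rw [IsScalarTower.algebraMap_apply A Ah Ash a]
    exact RingHom.congr_fun hτ (residue Ah (algebraMap A Ah a)))
  refine ⟨g, ⟨?_, hgr⟩, fun g' hg' => huniq g' ⟨?_, hg'.2⟩⟩
  · obtain ⟨g₀, -, hu⟩ := hh.universal T (f.comp (algebraMap A Ah)) hl
    refine (hu (g.comp (algebraMap Ah Ash)) ?_).trans (hu f rfl).symm
    show (g.comp (algebraMap Ah Ash)).comp (algebraMap A Ah) = _
    rw [RingHom.comp_assoc, ← IsScalarTower.algebraMap_eq]
    exact hg
  · rw [IsScalarTower.algebraMap_eq A Ah Ash, ← RingHom.comp_assoc, hg'.1]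

end tower

theorem isRadical_map_strict (R S : Type u) [CommRing R] [IsLocalRing R] [CommRing S] [IsLocalRing S]
    [Algebra R S] [IsLocalHom (algebraMap R S)] [_root_.Hensel.IsStrictHenselization R S] (p : Ideal R) [p.IsPrime] :
    (p.map (algebraMap R S)).IsRadical := by
  let I := p.map (algebraMap R S)
  have hle : I ≤ maximalIdeal S := Ideal.map_le_iff_le_comap.2
    ((IsLocalRing.le_maximalIdeal (Ideal.IsPrime.ne_top ‹_›)).trans (le_of_eq (IsLocalRing.maximalIdeal_comap _).symm))
  haveI : Nontrivial (S ⧸ I) := Ideal.Quotient.nontrivial_iff.2 fun h =>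
    (maximalIdeal.isMaximal S).ne_top (top_le_iff.1 (h ▸ hle))
  haveI : IsLocalRing (S ⧸ I) := IsLocalRing.of_surjective' _ Ideal.Quotient.mk_surjective
  haveI : Nontrivial (R ⧸ p) := Ideal.Quotient.nontrivial_iff.2 (Ideal.IsPrime.ne_top ‹_›)
  haveI : IsLocalRing (R ⧸ p) := IsLocalRing.of_surjective' _ Ideal.Quotient.mk_surjective
  haveI : IsLocalHom (algebraMap (R ⧸ p) (S ⧸ I)) := ⟨fun x hx => by
    obtain ⟨a, rfl⟩ := Ideal.Quotient.mk_surjective x
    haveI : IsLocalHom (Ideal.Quotient.mk I) := .of_surjective _ Ideal.Quotient.mk_surjective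
    exact ((isUnit_map_iff (algebraMap R S) a).1 ((isUnit_map_iff (Ideal.Quotient.mk I) _).1 hx)).map _⟩
  haveI := BrnchLib.isStrictHenselization_quotient (S := S) p
  haveI : IsReduced (S ⧸ I) :=
    (Groth.Agent.Hensel.isHenzLike_of_isStrictHenselization (R ⧸ p) (S ⧸ I)).isReduced_iff.1 inferInstance
  exact (Ideal.isRadical_iff_quotient_reduced I).2 inferInstance

/-- Minimal primes are extended iff their number does not grow. -/
theorem extended_iff_card (R S : Type u) [CommRing R] [IsLocalRing R] [CommRing S] [IsLocalRing S]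
    [Algebra R S] [IsLocalHom (algebraMap R S)] [_root_.Hensel.IsStrictHenselization R S] [IsReduced R]
    [Finite (minimalPrimes S)] :
    (∀ Q ∈ minimalPrimes S, Q = Ideal.map (algebraMap R S) (Q.comap (algebraMap R S))) ↔
      ENat.card (minimalPrimes S) = ENat.card (minimalPrimes R) := by
  have hH := Groth.Agent.Hensel.isHenzLike_of_isStrictHenselization R S
  haveI := hH.faithfullyFlat
  let c : minimalPrimes S → minimalPrimes R := fun q => ⟨q.1.comap (algebraMap R S),
    haveI : q.1.IsPrime := q.2.1.1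
    (BrnchLib.mem_minimalPrimes_iff_comap hH).1 q.2⟩
  have hc : Function.Surjective c := fun p => by
    obtain ⟨q, hq, hqp⟩ := BrnchLib.exists_minimalPrimes_over hH p.2
    exact ⟨⟨q, hq⟩, Subtype.ext hqp⟩
  haveI : Finite (minimalPrimes R) := Finite.of_surjective c hc
  rw [ENat.card_eq_coe_natCard, ENat.card_eq_coe_natCard, ENat.natCast_inj]
  constructor
  · intro h
    refine Nat.card_eq_of_bijective c ⟨fun q q' he => Subtype.ext ?_, hc⟩
    rw [h q.1 q.2, h q'.1 q'.2, show q.1.comap (algebraMap R S) = q'.1.comap (algebraMap R S) from congrArg Subtype.val he]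
  · intro h Q hQ
    have hb := hc.bijective_of_nat_card_le h.le
    haveI : Q.IsPrime := hQ.1.1
    let p := Q.comap (algebraMap R S)
    haveI : p.IsPrime := Ideal.IsPrime.comap _
    have hrad : (p.map (algebraMap R S)).IsRadical := isRadical_map_strict R S p
    refine le_antisymm (fun x hx => ?_) Ideal.map_comap_le
    refine hrad ?_
    rw [Ideal.radical_eq_sInf]
    refine Ideal.mem_sInf.2 ?_
    intro P hP'
    obtain ⟨hP, hPp⟩ : Ideal.map (algebraMap R S) p ≤ P ∧ P.IsPrime := hP'
    have hle : p ≤ P.comap (algebraMap R S) := Ideal.map_le_iff_le_comap.1 hP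
    haveI := hPp
    obtain ⟨P₀, hP₀le, hP₀, ho⟩ := Ideal.exists_ideal_le_liesOver_of_le (p := p) (q := P.comap (algebraMap R S)) P hle
    obtain ⟨P₁, hP₁, hP₁le⟩ := Ideal.exists_minimalPrimes_le (bot_le : (⊥ : Ideal S) ≤ P₀)
    have hpmin : p ∈ minimalPrimes R := (BrnchLib.mem_minimalPrimes_iff_comap hH).1 hQ
    have hP₁p : P₁.comap (algebraMap R S) = p := by
      have h12 : P₁.comap (algebraMap R S) ≤ p := (Ideal.comap_mono hP₁le).trans (le_of_eq ho.over.symm)
      haveI := hP₁.1.1
      exact le_antisymm h12 (hpmin.2 ⟨Ideal.IsPrime.comap _, bot_le⟩ h12)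
    have hP₁Q : (⟨P₁, hP₁⟩ : minimalPrimes S) = ⟨Q, hQ⟩ := hb.1 (Subtype.ext hP₁p)
    have hP₁Q' : P₁ = Q := congrArg Subtype.val hP₁Q
    exact hP₀le (hP₁le (hP₁Q'.symm ▸ hx))

/-- All branches are geometric branches iff the residue fields are purely inseparable. -/
theorem numGeomBranches_eq_numBranches_iff (A : Type u) [CommRing A] [IsLocalRing A] [IsReduced A]
    (hfin : (minimalPrimes A).Finite) (hne : Brnch.numGeomBranches A ≠ ⊤) :
    Brnch.numGeomBranches A = Brnch.numBranches A ↔ PI A := by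
  let e : CAlg2.red A ≃+* A :=
    (Ideal.quotEquivOfEq (show nilradical A = ⊥ by rw [nilradical_eq_zero A]; rfl)).trans (RingEquiv.quotientBot A)
  rw [Brnch.numGeomBranches, if_pos hfin] at hne
  rw [Brnch.numGeomBranches, if_pos hfin, Brnch.numBranches, if_pos hfin]
  haveI : Finite (Σ m : MaximalSpectrum (CAlg2.normRed A), Brnch.Emb A m) :=
    ENat.card_lt_top.1 (lt_top_iff_ne_top.2 hne)
  let c : (Σ m : MaximalSpectrum (CAlg2.normRed A), Brnch.Emb A m) → MaximalSpectrum (CAlg2.normRed A) := Sigma.fst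
  have hc : Function.Surjective c := fun m => ⟨⟨m, (BrnchLib.subsingleton_emb_iff A m).1.some⟩, rfl⟩
  haveI : Finite (MaximalSpectrum (CAlg2.normRed A)) := Finite.of_surjective c hc
  rw [ENat.card_eq_coe_natCard, ENat.card_eq_coe_natCard, ENat.natCast_inj]
  have hrange : ∀ (m : Ideal (CAlg2.normRed A)),
      ((Ideal.Quotient.mk m).comp ((algebraMap (CAlg2.red A) (CAlg2.normRed A)).comp (Ideal.Quotient.mk (nilradical A)))).range =
      ((Ideal.Quotient.mk m).comp (algebraMap (CAlg2.red A) (CAlg2.normRed A))).range := fun m => by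
    ext x
    constructor
    · rintro ⟨a, rfl⟩; exact ⟨_, rfl⟩
    · rintro ⟨a, rfl⟩
      obtain ⟨a, rfl⟩ := Ideal.Quotient.mk_surjective a
      exact ⟨a, rfl⟩
  constructor
  · intro h
    have hb := hc.bijective_of_nat_card_le h.le
    refine PI_of_ringEquiv e fun M hM x => ?_
    obtain ⟨n, hn⟩ := (BrnchLib.subsingleton_emb_iff A ⟨M, hM⟩).2.1
      ⟨fun σ τ => eq_of_heq (Sigma.mk.inj (@hb.1 ⟨⟨M, hM⟩, σ⟩ ⟨⟨M, hM⟩, τ⟩ rfl)).2⟩ x
    exact ⟨n, hrange M ▸ hn⟩
  · intro h
    refine Nat.card_eq_of_bijective c ⟨?_, hc⟩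
    rintro ⟨m, σ⟩ ⟨m', τ⟩ (rfl : m = m')
    haveI : Subsingleton (Brnch.Emb A m) := (BrnchLib.subsingleton_emb_iff A m).2.2 fun x => by
      obtain ⟨n, hn⟩ := PI_of_ringEquiv e.symm h m.asIdeal m.isMaximal x
      exact ⟨n, (hrange m.asIdeal).symm ▸ hn⟩
    rw [Subsingleton.elim σ τ]

end Groth.Agent.EssEtGal7
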