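import Groth.Agent.EssEtGal7.GeomEt
import Mathlib

/-! The ind-étale subalgebras of a strict henselization. -/

set_option autoImplicit false
set_option linter.style.haveILetI false
universe u

open IsLocalRing

namespace Groth.Agent.EssEtGal7

/-- Subalgebras of a local integral algebra over a henselian ring are henselian local. -/
theorem local_sub {A Z : Type u} [CommRing A] [HenselianLocalRing A] [CommRing Z] [IsLocalRing Z] [Algebra A Z]
    [IsLocalHom (algebraMap A Z)] [Algebra.IsIntegral A Z] (T : Subalgebra A Z) :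
    IsLocalRing T ∧ IsLocalHom (algebraMap T Z) ∧ IsLocalHom (algebraMap A T) ∧ Algebra.IsIntegral A T := by
  haveI : Algebra.IsIntegral T Z := Algebra.IsIntegral.tower_top (R := A)
  haveI : Algebra.IsIntegral A T := ⟨fun x => (isIntegral_algHom_iff T.val Subtype.val_injective).1
    (Algebra.IsIntegral.isIntegral (R := A) (x : Z))⟩
  have hinj : Function.Injective (algebraMap T Z) := Subtype.val_injective
  have hmax : ∀ P : Ideal T, P.IsMaximal → P = (maximalIdeal Z).comap (algebraMap T Z) := fun P hP => by
    obtain ⟨Q, hQ, hQP⟩ := Ideal.exists_ideal_over_maximal_of_isIntegral (S := Z) P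
      (by rw [(RingHom.injective_iff_ker_eq_bot _).1 hinj]; exact bot_le)
    rw [← IsLocalRing.eq_maximalIdeal hQ, hQP]
  obtain ⟨P, hP⟩ := Ideal.exists_maximal T
  haveI : IsLocalRing T := IsLocalRing.of_unique_max_ideal ⟨P, hP, fun P' hP' => (hmax P' hP').trans (hmax P hP).symm⟩
  haveI hloc : IsLocalHom (algebraMap T Z) := ⟨fun d hd => by
    by_contra h
    have : d ∈ maximalIdeal T := h
    rw [hmax _ (maximalIdeal.isMaximal T)] at this
    exact this hd⟩
  exact ⟨inferInstance, hloc, ⟨fun a ha => by
    have := ha.map (algebraMap T Z)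
    rw [← IsScalarTower.algebraMap_apply] at this
    exact (isUnit_map_iff (algebraMap A Z) a).1 this⟩, inferInstance⟩

/-- An étale algebra mapping with residues in those of a subalgebra maps into the subalgebra. -/
theorem lift_mem {A Z κ : Type u} [CommRing A] [HenselianLocalRing A] [CommRing Z] [HenselianLocalRing Z] [Algebra A Z]
    [IsLocalHom (algebraMap A Z)] [Algebra.IsIntegral A Z] [Field κ] [Algebra A κ] (ρ : Z →ₐ[A] κ)
    (hρ : ∀ z, ρ z = 0 ↔ z ∈ maximalIdeal Z) (T : Subalgebra A Z) {E : Type u} [CommRing E] [Algebra A E]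
    [Algebra.Etale A E] (f : E →ₐ[A] Z) (hres : ∀ x, ∃ t ∈ T, ρ (f x) = ρ t) : ∀ x, f x ∈ T := by
  obtain ⟨hTl, hTZ, hAT, hTi⟩ := local_sub T
  haveI : HenselianLocalRing T := Groth.Agent.Hensel.henselianLocalRing_of_isIntegral_local A T
  haveI := henselianRing_max T
  haveI := henselianRing_max Z
  have hker : ∀ t : T, ρ (t : Z) = 0 ↔ t ∈ maximalIdeal T := fun t => by
    rw [hρ, mem_maximalIdeal, mem_maximalIdeal, mem_nonunits_iff, mem_nonunits_iff]
    exact (not_congr (isUnit_map_iff (algebraMap T Z) t))
  let r : T ⧸ maximalIdeal T →ₐ[A] κ := Ideal.Quotient.liftₐ _ (ρ.comp T.val) fun t ht => (hker t).2 ht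
  have hr : Function.Injective r := fun x y h => by
    obtain ⟨x, rfl⟩ := Ideal.Quotient.mk_surjective x
    obtain ⟨y, rfl⟩ := Ideal.Quotient.mk_surjective y
    refine Ideal.Quotient.eq.2 ((hker _).1 ?_)
    show ρ ((x : Z) - (y : Z)) = 0
    rw [map_sub, sub_eq_zero]
    exact h
  let θ : E →ₐ[A] T ⧸ maximalIdeal T := (AlgEquiv.ofInjective r hr).symm.toAlgHom.comp
    ((ρ.comp f).codRestrict r.range fun x => by
      obtain ⟨t, ht, htx⟩ := hres x
      exact ⟨Ideal.Quotient.mk _ ⟨t, ht⟩, htx.symm⟩)
  obtain ⟨l, hl, -⟩ := Groth.Agent.Hensel.existsUnique_etale_lift_of_algebra (maximalIdeal T) θ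
  have hlx : ∀ x, ρ (l x : Z) = ρ (f x) := fun x => by
    have h1 : Ideal.Quotient.mk (maximalIdeal T) (l x) = θ x := congr($hl x)
    have h2 : r (θ x) = ρ (f x) := congrArg Subtype.val ((AlgEquiv.ofInjective r hr).apply_symm_apply _)
    rw [← h2, ← h1]
    rfl
  obtain ⟨l', -, hu⟩ := Groth.Agent.Hensel.existsUnique_etale_lift_of_algebra (maximalIdeal Z)
    ((Ideal.Quotient.mkₐ A (maximalIdeal Z)).comp f)
  have h : T.val.comp l = f := (hu (T.val.comp l) (AlgHom.ext fun x => by
    refine Ideal.Quotient.eq.2 ((hρ _).1 ?_)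
    rw [map_sub, sub_eq_zero]
    exact hlx x)).trans (hu f rfl).symm
  intro x
  rw [← congr($h x)]
  exact (l x).2

variable {A S : Type u} [CommRing A] [HenselianLocalRing A] [CommRing S] [IsLocalRing S]
    [Algebra A S] [IsLocalHom (algebraMap A S)] [_root_.Hensel.IsStrictHenselization A S]

/-- A finite étale subalgebra with prescribed residue field. -/
theorem exists_stage_sub (F : IntermediateField (ResidueField A) (ResidueField S)) [FiniteDimensional (ResidueField A) F] :
    ∃ E : Subalgebra A S, Algebra.Etale A E ∧ Module.Finite A E ∧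
      (∀ x ∈ E, residue S x ∈ F) ∧ ∀ z ∈ F, ∃ x ∈ E, residue S x = z := by
  haveI := _root_.Hensel.IsStrictHenselization.henselian (R := A) (S := S)
  haveI : Algebra.IsSeparable (ResidueField A) (ResidueField S) :=
    (_root_.Hensel.IsStrictHenselization.isSepClosure (R := A) (S := S)).separable
  haveI : Algebra.IsSeparable (ResidueField A) F := Algebra.isSeparable_tower_bot_of_isSeparable (ResidueField A) F (ResidueField S)
  obtain ⟨E₀, _, _, _, _, hfin, hEt, ⟨e⟩⟩ := Groth.Agent.Hensel.exists_finite_etale_residueField A F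
  haveI := hfin
  haveI := hEt
  haveI := henselianRing_max S
  let res : E₀ →ₐ[A] F := ((e : ResidueField E₀ →ₐ[ResidueField A] F).restrictScalars A).comp (IsScalarTower.toAlgHom A E₀ (ResidueField E₀))
  obtain ⟨j, hj, -⟩ := Groth.Agent.Hensel.existsUnique_etale_lift_of_algebra (maximalIdeal S)
    ((F.val.restrictScalars A).comp res)
  have hj' : ∀ x, residue S (j x) = ((e (residue E₀ x) : F) : ResidueField S) := fun x => congr($hj x)
  letI : Algebra E₀ S := j.toRingHom.toAlgebra
  haveI : IsScalarTower A E₀ S := IsScalarTower.of_algebraMap_eq fun a => (j.commutes a).symm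
  haveI : IsLocalHom (algebraMap E₀ S) := ⟨fun x hx => by
    by_contra hx'
    have h := hj' x
    rw [(residue_eq_zero_iff x).2 hx', map_zero, ZeroMemClass.coe_zero] at h
    exact (residue_eq_zero_iff _).1 h hx⟩
  haveI := isStrictHenselization_of_etale A E₀ S
  haveI := Groth.Agent.Hensel.faithfullyFlat_of_isStrictHenselization (R := E₀) (S := S)
  have hinj : Function.Injective j := FaithfulSMul.algebraMap_injective E₀ S
  let φ := AlgEquiv.ofInjective j hinj
  refine ⟨j.range, Algebra.Etale.of_equiv φ, Module.Finite.equiv φ.toLinearEquiv, ?_, fun z hz => ?_⟩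
  · rintro x ⟨y, rfl⟩
    show residue S (j y) ∈ F
    rw [hj']
    exact (e (residue E₀ y)).2
  · obtain ⟨y, hy⟩ := residue_surjective (e.symm ⟨z, hz⟩)
    refine ⟨j y, ⟨y, rfl⟩, ?_⟩
    rw [hj', hy, AlgEquiv.apply_symm_apply]

/-- The stages with residues in a given subfield. -/
def stages (k' : IntermediateField (ResidueField A) (ResidueField S)) : Set (Subalgebra A S) :=
  {E | Algebra.Etale A E ∧ Module.Finite A E ∧ ∀ x ∈ E, residue S x ∈ k'}

theorem stages_nonempty (k' : IntermediateField (ResidueField A) (ResidueField S)) : (stages k').Nonempty := by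
  obtain ⟨E, h1, h2, h3, -⟩ := exists_stage_sub (A := A) (S := S) ⊥
  exact ⟨E, h1, h2, fun x hx => (bot_le : ⊥ ≤ k') (h3 x hx)⟩

theorem stages_directed (k' : IntermediateField (ResidueField A) (ResidueField S)) :
    DirectedOn (· ≤ ·) (stages k') := by
  classical
  haveI := isIntegral_strict A S
  haveI := _root_.Hensel.IsStrictHenselization.henselian (R := A) (S := S)
  haveI : Algebra.IsSeparable (ResidueField A) (ResidueField S) :=
    (_root_.Hensel.IsStrictHenselization.isSepClosure (R := A) (S := S)).separable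
  intro E₁ h₁ E₂ h₂
  haveI := h₁.2.1
  haveI := h₂.2.1
  obtain ⟨G₁, hG₁⟩ := Module.Finite.fg_top (R := A) (M := E₁)
  obtain ⟨G₂, hG₂⟩ := Module.Finite.fg_top (R := A) (M := E₂)
  let G : Finset (ResidueField S) := G₁.image (fun x => residue S x.1) ∪ G₂.image (fun x => residue S x.1)
  let F : IntermediateField (ResidueField A) (ResidueField S) := IntermediateField.adjoin (ResidueField A) (G : Set (ResidueField S))
  haveI : FiniteDimensional (ResidueField A) F := IntermediateField.finiteDimensional_adjoin fun x _ =>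
    (Algebra.IsSeparable.isSeparable (ResidueField A) x).isIntegral
  have hFk : F ≤ k' := IntermediateField.adjoin_le_iff.2 fun z hz => by
    rcases Finset.mem_union.1 (Finset.mem_coe.1 hz) with hz | hz <;> obtain ⟨x, -, rfl⟩ := Finset.mem_image.1 hz
    · exact h₁.2.2 _ x.2
    · exact h₂.2.2 _ x.2
  obtain ⟨E, h3, h4, h5, h6⟩ := exists_stage_sub (A := A) (S := S) F
  refine ⟨E, ⟨h3, h4, fun x hx => hFk (h5 x hx)⟩, ?_⟩
  have key : ∀ (E' : Subalgebra A S) (hEt : Algebra.Etale A E') (G' : Finset E'), Submodule.span A (G' : Set E') = ⊤ →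
      (∀ x ∈ G', residue S x.1 ∈ F) → E' ≤ E := by
    intro E' hEt G' hG' hgen x hx
    haveI := hEt
    refine lift_mem (IsScalarTower.toAlgHom A S (ResidueField S)) (fun z => residue_eq_zero_iff z) E E'.val (fun y => ?_) ⟨x, hx⟩
    have hy : residue S y.1 ∈ F := by
      have hy : y ∈ Submodule.span A (G' : Set E') := hG' ▸ Submodule.mem_top
      induction hy using Submodule.span_induction with
      | mem z hz => exact hgen z hz
      | zero => rw [ZeroMemClass.coe_zero, map_zero]; exact zero_mem F
      | add a b _ _ ha hb => rw [show ((a + b : E') : S) = (a : S) + b from rfl, map_add]; exact add_mem ha hb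
      | smul a z _ hz =>
        rw [show ((a • z : E') : S) = algebraMap A S a * (z : S) from Algebra.smul_def a (z : S), map_mul]
        exact mul_mem (F.algebraMap_mem (residue A a)) hz
    obtain ⟨t, ht, htx⟩ := h6 _ hy
    exact ⟨t, ht, htx.symm⟩
  exact ⟨key E₁ h₁.1 G₁ hG₁ fun x hx => IntermediateField.subset_adjoin _ _
      (Finset.mem_union_left _ (Finset.mem_image_of_mem _ hx)),
    key E₂ h₂.1 G₂ hG₂ fun x hx => IntermediateField.subset_adjoin _ _
      (Finset.mem_union_right _ (Finset.mem_image_of_mem _ hx))⟩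

/-- The ind-étale subalgebra with residue field inside `k'`. -/
noncomputable def indEtale (k' : IntermediateField (ResidueField A) (ResidueField S)) : Subalgebra A S :=
  ⨆ E : stages k', (E : Subalgebra A S)

theorem mem_indEtale_iff (k' : IntermediateField (ResidueField A) (ResidueField S)) (x : S) :
    x ∈ indEtale k' ↔ ∃ E ∈ stages k', x ∈ E := by
  haveI : Nonempty (stages k') := (stages_nonempty k').to_subtype
  rw [indEtale, ← SetLike.mem_coe, Subalgebra.coe_iSup_of_directed (directedOn_iff_directed.1 (stages_directed k')), Set.mem_iUnion]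
  exact ⟨fun ⟨E, hE⟩ => ⟨E.1, E.2, hE⟩, fun ⟨E, h, hE⟩ => ⟨⟨E, h⟩, hE⟩⟩

theorem isNoetherianRing_indEtale [IsNoetherianRing S] (k' : IntermediateField (ResidueField A) (ResidueField S)) :
    IsNoetherianRing (indEtale k') := by
  classical
  haveI := isIntegral_strict A S
  let W := indEtale k'
  have key : ∀ J : Ideal W, (J.map (algebraMap W S)).comap (algebraMap W S) = J := by
    intro J
    refine le_antisymm (fun x hx => ?_) Ideal.le_comap_map
    obtain ⟨s, hs, hxs⟩ := Submodule.mem_span_finite_of_mem_span (Ideal.mem_comap.1 hx)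
    choose g hg hgs using fun z : (s : Set S) => hs z.2
    let T : Finset S := insert (x : S) (Finset.univ.image fun z => (g z : S))
    have hdir : ∀ T : Finset S, (∀ z ∈ T, z ∈ W) → ∃ E ∈ stages k', ∀ z ∈ T, z ∈ E := by
      intro T
      induction T using Finset.induction_on with
      | empty => exact fun _ => ⟨_, (stages_nonempty k').some_mem, fun z hz => absurd hz (Finset.notMem_empty z)⟩
      | @insert a t _ ih =>
        intro h
        obtain ⟨E, hE, hEt⟩ := ih fun z hz => h z (Finset.mem_insert_of_mem hz)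
        obtain ⟨E', hE', ha⟩ := (mem_indEtale_iff k' a).1 (h a (Finset.mem_insert_self _ _))
        obtain ⟨E'', hE'', h1, h2⟩ := stages_directed k' E hE E' hE'
        refine ⟨E'', hE'', fun z hz => ?_⟩
        rcases Finset.mem_insert.1 hz with rfl | hz
        exacts [h2 ha, h1 (hEt z hz)]
    obtain ⟨E, hE, hT⟩ := hdir T (by
      intro z hz
      rcases Finset.mem_insert.1 hz with rfl | hz
      · exact x.2
      · obtain ⟨w, -, rfl⟩ := Finset.mem_image.1 hz
        exact (g w).2)
    obtain ⟨hEl, hES, hAE, -⟩ := local_sub E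
    haveI := hE.1
    haveI := isStrictHenselization_of_etale A E S
    haveI := Groth.Agent.Hensel.faithfullyFlat_of_isStrictHenselization (R := E) (S := S)
    have hEW : E ≤ W := le_iSup (fun E : stages k' => (E : Subalgebra A S)) ⟨E, hE⟩
    let incl : E →+* W := (Subalgebra.inclusion hEW).toRingHom
    let J₀ : Ideal E := J.comap incl
    have hxE : (x : S) ∈ E := hT _ (Finset.mem_insert_self _ _)
    have hmem : (x : S) ∈ J₀.map (algebraMap E S) := by
      refine (Submodule.span_le.2 fun z hz => ?_ : Submodule.span S (s : Set S) ≤ J₀.map (algebraMap E S)) hxs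
      have hgE : (g ⟨z, hz⟩ : S) ∈ E := hT _ (Finset.mem_insert_of_mem (Finset.mem_image_of_mem _ (Finset.mem_univ _)))
      rw [show z = algebraMap W S (g ⟨z, hz⟩) from (hgs ⟨z, hz⟩).symm]
      exact Ideal.mem_map_of_mem (algebraMap E S) (show (⟨_, hgE⟩ : E) ∈ J₀ from hg ⟨z, hz⟩)
    have : (⟨(x : S), hxE⟩ : E) ∈ J₀ := by
      rw [← Ideal.comap_map_eq_self_of_faithfullyFlat (B := S) J₀]
      exact hmem
    exact this
  exact isNoetherianRing_iff.2 (isNoetherian_iff'.2
    (StrictMono.wellFoundedGT (f := fun J : Ideal W => Ideal.map (algebraMap W S) J)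
      (Monotone.strictMono_of_injective (fun _ _ h => Ideal.map_mono h) fun J J' h => by
        have h' : Ideal.map (algebraMap W S) J = Ideal.map (algebraMap W S) J' := h
        rw [← key J, h', key J'])))

end Groth.Agent.EssEtGal7
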