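import Groth.Agent.EssEtGal7.GeomSep
import Groth.Agent.EssEtGal7.GeomStage
import Groth.Agent.S16547
import Groth.Agent.S0540
import Mathlib

/-! Noetherianity of subalgebras of a strict henselization. -/

set_option autoImplicit false
set_option linter.style.haveILetI false
universe u

open IsLocalRing

namespace Groth.Agent.EssEtGal7

/-- The residues of a subalgebra. -/
def resAlg {A Z κ : Type u} [CommRing A] [IsLocalRing A] [CommRing Z] [Algebra A Z] [Field κ] [Algebra A κ]
    [Algebra (ResidueField A) κ] [IsScalarTower A (ResidueField A) κ]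
    (ρ : Z →ₐ[A] κ) (T : Subalgebra A Z) : Subalgebra (ResidueField A) κ :=
  { (T.map ρ).toSubsemiring with
    algebraMap_mem' := fun x => by
      obtain ⟨a, rfl⟩ := residue_surjective x
      show algebraMap (ResidueField A) κ (algebraMap A (ResidueField A) a) ∈ T.map ρ
      rw [← IsScalarTower.algebraMap_apply]
      exact Subalgebra.algebraMap_mem _ a }

/-- The residue field of a subalgebra inside that of the strict henselization. -/
noncomputable def resField {A Z κ : Type u} [CommRing A] [IsLocalRing A] [CommRing Z] [Algebra A Z] [Field κ] [Algebra A κ]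
    [Algebra (ResidueField A) κ] [IsScalarTower A (ResidueField A) κ] [Algebra.IsAlgebraic (ResidueField A) κ]
    (ρ : Z →ₐ[A] κ) (T : Subalgebra A Z) : IntermediateField (ResidueField A) κ :=
  (resAlg ρ T).toIntermediateField fun x hx =>
    (resAlg ρ T).inv_mem_of_algebraic (x := ⟨x, hx⟩) (Algebra.IsAlgebraic.isAlgebraic x)

theorem mem_resField {A Z κ : Type u} [CommRing A] [IsLocalRing A] [CommRing Z] [Algebra A Z] [Field κ] [Algebra A κ]
    [Algebra (ResidueField A) κ] [IsScalarTower A (ResidueField A) κ] [Algebra.IsAlgebraic (ResidueField A) κ]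
    (ρ : Z →ₐ[A] κ) (T : Subalgebra A Z) (z : κ) : z ∈ resField ρ T ↔ ∃ t ∈ T, ρ t = z := Iff.rfl

theorem exists_ringHom_extension {F X K : Type*} [Field F] [Field X] [Field K] [IsAlgClosed K] (g : F →+* X)
    (hg : g.IsIntegral) (t : F →+* K) : ∃ l : X →+* K, l.comp g = t := by
  letI := g.toAlgebra
  letI := t.toAlgebra
  haveI : Algebra.IsIntegral F X := ⟨hg⟩
  haveI : Algebra.IsAlgebraic F X := Algebra.IsIntegral.isAlgebraic
  let l : X →ₐ[F] K := IsAlgClosed.lift
  exact ⟨l.toRingHom, RingHom.ext l.commutes⟩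

variable {A S : Type u} [CommRing A] [HenselianLocalRing A] [CommRing S] [IsLocalRing S]
    [Algebra A S] [IsLocalHom (algebraMap A S)] [_root_.Hensel.IsStrictHenselization A S]

set_option maxHeartbeats 1600000 in
/-- A component is Noetherian when the residue field of its normalization has few embeddings. -/
theorem isNoetherianRing_quot (hA : EGA4.IsExcellent A) (D : Subalgebra A S) (Q : Ideal S) [Q.IsPrime]
    [IsLocalRing (D ⧸ Q.comap (algebraMap D S))]
    (hemb : ∀ m : MaximalSpectrum (CAlg2.normRed (D ⧸ Q.comap (algebraMap D S))),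
      Finite (Brnch.Emb (D ⧸ Q.comap (algebraMap D S)) m)) :
    IsNoetherianRing (D ⧸ Q.comap (algebraMap D S)) := by
  classical
  haveI : IsNoetherianRing A := hA.1
  haveI : IsNoetherianRing S := (Groth.Agent.S0540.result A S).1 inferInstance
  haveI := isIntegral_strict A S
  haveI : HenselianLocalRing S := _root_.Hensel.IsStrictHenselization.henselian (R := A) (S := S)
  haveI hsepκ : Algebra.IsSeparable (ResidueField A) (ResidueField S) :=
    (_root_.Hensel.IsStrictHenselization.isSepClosure (R := A) (S := S)).separable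
  let κ := ResidueField S
  let p : Ideal D := Q.comap (algebraMap D S)
  haveI : p.IsPrime := Ideal.IsPrime.comap _
  haveI : HenselianLocalRing (S ⧸ Q) := IsoNatLib.henselianLocalRing_quotient Q (Ideal.IsPrime.ne_top ‹_›)
  haveI : Algebra.IsIntegral A (S ⧸ Q) := ⟨fun z => by
    obtain ⟨s, rfl⟩ := Ideal.Quotient.mk_surjective z
    exact (Algebra.IsIntegral.isIntegral (R := A) s).map (Ideal.Quotient.mkₐ A Q)⟩
  haveI hmk : IsLocalHom (Ideal.Quotient.mk Q) := .of_surjective _ Ideal.Quotient.mk_surjective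
  haveI : IsLocalHom (algebraMap A (S ⧸ Q)) := ⟨fun a ha =>
    (isUnit_map_iff (algebraMap A S) a).1 ((isUnit_map_iff (Ideal.Quotient.mk Q) _).1 ha)⟩
  let ρ : S ⧸ Q →ₐ[A] κ := Ideal.Quotient.liftₐ Q (IsScalarTower.toAlgHom A S κ) fun s hs =>
    (residue_eq_zero_iff s).2 (IsLocalRing.le_maximalIdeal (Ideal.IsPrime.ne_top ‹Q.IsPrime›) hs)
  have hρmk : ∀ s, ρ (Ideal.Quotient.mk Q s) = residue S s := fun s => rfl
  have hρ : ∀ z, ρ z = 0 ↔ z ∈ maximalIdeal (S ⧸ Q) := fun z => by
    obtain ⟨s, rfl⟩ := Ideal.Quotient.mk_surjective z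
    rw [hρmk, residue_eq_zero_iff, mem_maximalIdeal, mem_maximalIdeal, mem_nonunits_iff, mem_nonunits_iff]
    exact (not_congr (isUnit_map_iff (Ideal.Quotient.mk Q) s).symm)
  let π : D →ₐ[A] S ⧸ Q := (Ideal.Quotient.mkₐ A Q).comp D.val
  let ψ : D ⧸ p →+* S ⧸ Q := Ideal.quotientMap Q (algebraMap D S) le_rfl
  have hψinj : Function.Injective ψ := Ideal.quotientMap_injective
  let Rr := CAlg2.red (D ⧸ p)
  haveI : IsDomain Rr := by
    haveI : (nilradical (D ⧸ p)).IsPrime := by rw [nilradical_eq_zero]; exact Ideal.isPrime_bot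
    exact Ideal.Quotient.isDomain _
  let ψr : Rr →+* S ⧸ Q := Ideal.Quotient.lift (nilradical (D ⧸ p)) ψ fun x hx => by
    rw [(mem_nilradical.1 hx).eq_zero, map_zero]
  have hψr : Function.Injective ψr := fun x y h => by
    obtain ⟨x, rfl⟩ := Ideal.Quotient.mk_surjective x
    obtain ⟨y, rfl⟩ := Ideal.Quotient.mk_surjective y
    exact congrArg _ (hψinj h)
  let M := FractionRing (S ⧸ Q)
  let K := FractionRing Rr
  have hψM : Function.Injective ((algebraMap (S ⧸ Q) M).comp ψr) := (IsFractionRing.injective (S ⧸ Q) M).comp hψr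
  let ψK : K →+* M := IsFractionRing.lift hψM
  have hψK : ∀ d : D, ψK (algebraMap Rr K (Ideal.Quotient.mk _ (Ideal.Quotient.mk p d))) = algebraMap (S ⧸ Q) M (π d) :=
    fun d => IsFractionRing.lift_algebraMap hψM _
  have hψA : ∀ a : A, ψK (algebraMap A K a) = algebraMap A M a := fun a => by
    rw [IsScalarTower.algebraMap_apply A Rr K a,
      show algebraMap A Rr a = Ideal.Quotient.mk (nilradical (D ⧸ p)) (Ideal.Quotient.mk p (algebraMap A D a)) from rfl,
      hψK, AlgHom.commutes]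
    exact (IsScalarTower.algebraMap_apply A (S ⧸ Q) M a).symm
  let L : Subfield M := ψK.fieldRange
  let D' : Subalgebra A (S ⧸ Q) :=
    { L.toSubring.comap (algebraMap (S ⧸ Q) M) with
      algebraMap_mem' := fun a => by
        show algebraMap (S ⧸ Q) M (algebraMap A (S ⧸ Q) a) ∈ L
        rw [← IsScalarTower.algebraMap_apply]
        exact ⟨_, hψA a⟩ }
  have hπD' : ∀ d, π d ∈ D' := fun d => ⟨_, hψK d⟩
  obtain ⟨hD'l, hD'Z, hAD', hD'i⟩ := local_sub D'
  -- into the normalization
  let eK : K ≃+* L := RingEquiv.ofBijective ψK.rangeRestrictField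
    ⟨fun x y h => ψK.injective (congrArg Subtype.val h), fun ⟨_, x, rfl⟩ => ⟨x, rfl⟩⟩
  let f₀ : D' →+* K := eK.symm.toRingHom.comp
    (((algebraMap (S ⧸ Q) M).comp D'.val.toRingHom).codRestrict L fun z => z.2)
  have hf₀ : ∀ z : D', ψK (f₀ z) = algebraMap (S ⧸ Q) M z.1 := fun z =>
    congrArg Subtype.val (eK.apply_symm_apply _)
  let f₁ : D' →ₐ[A] K :=
    { f₀ with
      commutes' := fun a => ψK.injective (by
        show ψK (f₀ (algebraMap A D' a)) = _
        rw [hf₀, hψA]
        exact (IsScalarTower.algebraMap_apply A (S ⧸ Q) M a).symm) }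
  let B := CAlg2.normRed (D ⧸ p)
  let f : D' →+* B := f₀.codRestrict (integralClosure Rr K) fun z =>
    ((Algebra.IsIntegral.isIntegral (R := A) z).map f₁).tower_top
  let ι : D →+* D' := π.toRingHom.codRestrict D' hπD'
  have hfι : f.comp ι = ((algebraMap Rr B).comp (Ideal.Quotient.mk (nilradical (D ⧸ p)))).comp (Ideal.Quotient.mk p) :=
    RingHom.ext fun d => Subtype.ext (ψK.injective (by
      show ψK (f₀ (ι d)) = ψK (algebraMap Rr K (Ideal.Quotient.mk _ (Ideal.Quotient.mk p d)))
      rw [hf₀, hψK]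
      rfl))
  have hfint : f.IsIntegral := RingHom.IsIntegral.tower_top ι f (by
    rw [hfι, RingHom.comp_assoc]
    exact (RingHom.isIntegral_of_surjective _
      ((Ideal.Quotient.mk_surjective (I := nilradical (D ⧸ p))).comp (Ideal.Quotient.mk_surjective (I := p)))).trans _ _
      (Algebra.IsIntegral.isIntegral (R := Rr) (A := B)))
  have hfinj : Function.Injective f := fun x y h => Subtype.ext (IsFractionRing.injective (S ⧸ Q) M (by
    rw [← hf₀, ← hf₀, show f₀ x = f₀ y from congrArg Subtype.val h]))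
  letI : Algebra D' B := f.toAlgebra
  haveI : Algebra.IsIntegral D' B := ⟨hfint⟩
  obtain ⟨N, hN, hNm⟩ := Ideal.exists_ideal_over_maximal_of_isIntegral (S := B) (maximalIdeal D')
    (by rw [show algebraMap D' B = f from rfl, (RingHom.injective_iff_ker_eq_bot f).1 hfinj]; exact bot_le)
  -- residue fields
  let kd : IntermediateField (ResidueField A) κ := resField ρ π.range
  let k' : IntermediateField (ResidueField A) κ := resField ρ D'
  have hk : kd ≤ k' := fun z ⟨t, ⟨d, hd⟩, ht⟩ => ⟨t, hd ▸ hπD' d, ht⟩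
  let k'' : IntermediateField kd κ := IntermediateField.extendScalars hk
  let rD : D' →+* k'' := (ρ.toRingHom.comp D'.val.toRingHom).codRestrict k'' fun z => ⟨z.1, z.2, rfl⟩
  have hrD : Function.Surjective rD := fun ⟨z, hz⟩ => by
    obtain ⟨t, ht, rfl⟩ := (mem_resField ρ D' z).1 hz
    exact ⟨⟨t, ht⟩, rfl⟩
  let r0 : D ⧸ p →+* kd := (ρ.toRingHom.comp ψ).codRestrict kd fun x => by
    obtain ⟨d, rfl⟩ := Ideal.Quotient.mk_surjective x
    exact ⟨π d, ⟨d, rfl⟩, rfl⟩
  have hr0 : Function.Surjective r0 := fun ⟨z, hz⟩ => by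
    obtain ⟨t, ⟨d, rfl⟩, ht⟩ := (mem_resField ρ π.range z).1 hz
    exact ⟨Ideal.Quotient.mk p d, Subtype.ext ht⟩
  let Kc := AlgebraicClosure (ResidueField (D ⧸ p))
  let iK : kd →+* Kc := r0.liftOfSurjective hr0 ⟨Brnch.toClosure (D ⧸ p), fun x hx => by
    have hnu : ¬ IsUnit x := fun hu => by
      have h := hu.map r0
      rw [RingHom.mem_ker.1 hx] at h
      exact not_isUnit_zero h
    show algebraMap (ResidueField (D ⧸ p)) Kc (residue (D ⧸ p) x) = 0
    rw [(residue_eq_zero_iff x).2 hnu, map_zero]⟩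
  have hiK : ∀ x, iK (r0 x) = Brnch.toClosure (D ⧸ p) x := fun x => RingHom.liftOfRightInverse_comp_apply _ _ _ _ x
  letI : Algebra kd Kc := iK.toAlgebra
  let m : MaximalSpectrum B := ⟨N, hN⟩
  haveI := hN
  letI := Ideal.Quotient.field N
  let gX : k'' →+* B ⧸ N := rD.liftOfSurjective hrD ⟨(Ideal.Quotient.mk N).comp f, fun z hz => by
    rw [RingHom.mem_ker, RingHom.comp_apply, Ideal.Quotient.eq_zero_iff_mem]
    have h0 : ρ z.1 = 0 := congrArg Subtype.val (RingHom.mem_ker.1 hz)
    have hzm : z ∈ maximalIdeal D' := fun hu => ((hρ _).1 h0) (hu.map D'.val)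
    rw [← hNm] at hzm
    exact hzm⟩
  have hgX : ∀ z, gX (rD z) = Ideal.Quotient.mk N (f z) := fun z => RingHom.liftOfRightInverse_comp_apply _ _ _ _ z
  have hgres : ∀ x, gX (algebraMap kd k'' (r0 x)) = Brnch.toResidue (D ⧸ p) m x := fun x => by
    obtain ⟨d, rfl⟩ := Ideal.Quotient.mk_surjective x
    rw [show algebraMap kd k'' (r0 (Ideal.Quotient.mk p d)) = rD (ι d) from rfl, hgX, ← RingHom.comp_apply f, hfι]
    rfl
  haveI : Algebra.IsSeparable (ResidueField A) κ := hsepκ
  haveI : Algebra.IsSeparable kd κ := Algebra.isSeparable_tower_top_of_isSeparable (ResidueField A) kd κ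
  haveI : Algebra.IsSeparable kd k'' := Algebra.isSeparable_tower_bot_of_isSeparable kd k'' κ
  haveI hFe : Finite (Brnch.Emb (D ⧸ p) m) := hemb m
  haveI : Finite (k'' →ₐ[kd] Kc) := by
    let Φ : Brnch.Emb (D ⧸ p) m → (k'' →ₐ[kd] Kc) := fun σ => AlgHom.mk (σ.1.comp gX) (fun c => by
      obtain ⟨x, rfl⟩ := hr0 c
      show σ.1 (gX (algebraMap kd k'' (r0 x))) = iK (r0 x)
      rw [hgres, hiK]
      exact RingHom.congr_fun σ.2 x)
    refine Finite.of_surjective Φ fun τ => ?_
    have hint : gX.IsIntegral := RingHom.IsIntegral.tower_top ((algebraMap kd k'').comp r0) gX (by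
      rw [show gX.comp ((algebraMap kd k'').comp r0) = Brnch.toResidue (D ⧸ p) m from RingHom.ext hgres]
      exact BrnchLib.toResidue_isIntegral (D ⧸ p) m)
    obtain ⟨l, hl⟩ := exists_ringHom_extension gX hint τ.toRingHom
    refine ⟨⟨l, RingHom.ext fun x => ?_⟩, AlgHom.ext fun z => RingHom.congr_fun hl z⟩
    show l (Brnch.toResidue (D ⧸ p) m x) = Brnch.toClosure (D ⧸ p) x
    rw [← hgres, ← hiK]
    exact (RingHom.congr_fun hl _).trans (τ.commutes _)
  haveI : FiniteDimensional kd k'' := finiteDimensional_of_finite_algHom (K := Kc)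
  -- the subalgebra generated by lifts
  obtain ⟨G, hG⟩ := Module.Finite.fg_top (R := kd) (M := k'')
  let b : k'' → D' := fun g => Classical.choose (hrD g)
  have hb : ∀ g, rD (b g) = g := fun g => Classical.choose_spec (hrD g)
  let lifts : Finset (S ⧸ Q) := G.image fun g => (b g : S ⧸ Q)
  let TD : Subalgebra D (S ⧸ Q) := Algebra.adjoin D (lifts : Set (S ⧸ Q))
  let T : Subalgebra A (S ⧸ Q) := TD.restrictScalars A
  have hTD' : ∀ z ∈ T, z ∈ D' := fun z hz => by
    replace hz : z ∈ Algebra.adjoin D (lifts : Set (S ⧸ Q)) := hz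
    induction hz using Algebra.adjoin_induction with
    | mem x hx =>
      obtain ⟨g, -, rfl⟩ := Finset.mem_image.1 (Finset.mem_coe.1 hx)
      exact (b g).2
    | algebraMap d => exact hπD' d
    | add x y _ _ hx hy => exact add_mem hx hy
    | mul x y _ _ hx hy => exact mul_mem hx hy
  have hk'T : ∀ z ∈ k', ∃ t ∈ T, ρ t = z := fun z hz => by
    have h : (⟨z, hz⟩ : k'') ∈ Submodule.span kd (G : Set k'') := hG ▸ Submodule.mem_top
    suffices h' : ∀ w : k'', w ∈ Submodule.span kd (G : Set k'') → ∃ t ∈ T, ρ t = w from h' _ h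
    intro w hw
    induction hw using Submodule.span_induction with
    | mem g hg => exact ⟨_, Algebra.subset_adjoin (Finset.mem_image_of_mem _ hg), congrArg Subtype.val (hb g)⟩
    | zero => exact ⟨0, zero_mem _, map_zero ρ⟩
    | add x y _ _ hx hy =>
      obtain ⟨t, ht, hx⟩ := hx
      obtain ⟨t', ht', hy⟩ := hy
      refine ⟨t + t', add_mem ht ht', ?_⟩
      rw [map_add, hx, hy]
      rfl
    | smul c x _ hx =>
      obtain ⟨t, ht, hx⟩ := hx
      obtain ⟨u, ⟨d, rfl⟩, hu⟩ := (mem_resField ρ π.range (c : κ)).1 c.2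
      refine ⟨π d * t, mul_mem (TD.algebraMap_mem d) ht, ?_⟩
      rw [map_mul, hx]
      exact congrArg (· * (x : κ)) hu
  -- the ind-étale algebra
  let W := indEtale (A := A) (S := S) k'
  have hWT : ∀ w ∈ W, Ideal.Quotient.mk Q w ∈ T := fun w hw => by
    obtain ⟨E, hE, hwE⟩ := (mem_indEtale_iff k' w).1 hw
    haveI := hE.1
    refine lift_mem ρ hρ T ((Ideal.Quotient.mkₐ A Q).comp E.val) (fun x => ?_) ⟨w, hwE⟩
    obtain ⟨t, ht, htx⟩ := hk'T _ (hE.2.2 x.1 x.2)
    exact ⟨t, ht, (hρmk x.1).trans htx.symm⟩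
  have hTW : ∀ z ∈ T, ∃ w ∈ W, Ideal.Quotient.mk Q w = z := fun z hz => by
    let t : Finset M := {algebraMap (S ⧸ Q) M z}
    obtain ⟨Dt, hDt, hfin, hunr, hloc⟩ := exists_inter hA Q t
    haveI := hfin
    haveI := hunr
    obtain ⟨hDtl, hDtZ, hADt, -⟩ := local_sub Dt
    have hzDt : z ∈ Dt := by
      rw [← SetLike.mem_coe, hDt]
      exact Subfield.subset_closure (Or.inr (Finset.mem_singleton_self _))
    have hle : ∀ y ∈ Dt, y ∈ D' := fun y hy => by
      rw [← SetLike.mem_coe, hDt] at hy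
      show algebraMap (S ⧸ Q) M y ∈ L
      refine (Subfield.closure_le.2 ?_ : Subfield.closure _ ≤ L) hy
      rintro x (⟨a, rfl⟩ | hx)
      · exact ⟨_, hψA a⟩
      · rw [Finset.mem_coe, Finset.mem_singleton] at hx
        rw [hx]
        exact hTD' z hz
    let F : IntermediateField (ResidueField A) κ := resField ρ Dt
    obtain ⟨Gt, hGt⟩ := Module.Finite.fg_top (R := A) (M := Dt)
    let F₁ : IntermediateField (ResidueField A) κ :=
      IntermediateField.adjoin (ResidueField A) ((Gt.image fun g => ρ g.1 : Finset κ) : Set κ)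
    haveI : FiniteDimensional (ResidueField A) F₁ := IntermediateField.finiteDimensional_adjoin fun x _ =>
      (Algebra.IsSeparable.isSeparable (ResidueField A) x).isIntegral
    have hFF₁ : F ≤ F₁ := fun y ⟨u, hu, huy⟩ => by
      rw [← huy]
      suffices h : ∀ w : Dt, w ∈ Submodule.span A (Gt : Set Dt) → ρ w.1 ∈ F₁ from h ⟨u, hu⟩ (hGt ▸ Submodule.mem_top)
      intro w hw
      induction hw using Submodule.span_induction with
      | mem g hg => exact IntermediateField.subset_adjoin _ _ (Finset.mem_image_of_mem _ hg)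
      | zero => rw [ZeroMemClass.coe_zero, map_zero]; exact zero_mem F₁
      | add a c _ _ ha hc => rw [show ((a + c : Dt) : S ⧸ Q) = (a : S ⧸ Q) + c from rfl, map_add]; exact add_mem ha hc
      | smul a g _ hg =>
        rw [show ((a • g : Dt) : S ⧸ Q) = algebraMap A (S ⧸ Q) a * (g : S ⧸ Q) from Algebra.smul_def a (g : S ⧸ Q),
          map_mul, AlgHom.commutes, IsScalarTower.algebraMap_apply A (ResidueField A) κ]
        exact mul_mem (F₁.algebraMap_mem _) hg
    haveI : FiniteDimensional (ResidueField A) F :=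
      Module.Finite.of_injective (IntermediateField.inclusion hFF₁).toLinearMap (IntermediateField.inclusion hFF₁).injective
    obtain ⟨E, hEe, hEf, hE1, hE2⟩ := exists_stage_sub (A := A) (S := S) F
    haveI := hEe
    have hEk' : E ∈ stages k' := ⟨hEe, hEf, fun x hx => by
      obtain ⟨u, hu, hux⟩ := (mem_resField ρ Dt _).1 (hE1 x hx)
      exact ⟨u, hle u hu, hux⟩⟩
    let fE : E →ₐ[A] S ⧸ Q := (Ideal.Quotient.mkₐ A Q).comp E.val
    have hfE : ∀ x, fE x ∈ Dt := lift_mem ρ hρ Dt fE fun x => by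
      obtain ⟨u, hu, hux⟩ := (mem_resField ρ Dt _).1 (hE1 x.1 x.2)
      exact ⟨u, hu, (hρmk x.1).trans hux.symm⟩
    let fE' : E →ₐ[A] Dt := fE.codRestrict Dt hfE
    haveI : Algebra.EssFiniteType A Dt := inferInstance
    obtain ⟨-, hm⟩ := Algebra.FormallyUnramified.iff_map_maximalIdeal_eq.1 hunr
    have htop : (⊤ : Submodule A Dt) ≤ LinearMap.range fE'.toLinearMap := by
      refine Submodule.le_of_le_smul_of_le_jacobson_bot Module.Finite.fg_top
        (IsLocalRing.jacobson_eq_maximalIdeal ⊥ bot_ne_top).ge fun y _ => ?_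
      obtain ⟨x, hx, hxy⟩ := hE2 (ρ y.1) ⟨y.1, y.2, rfl⟩
      have h2 : y - fE' ⟨x, hx⟩ ∈ maximalIdeal Dt := by
        refine fun hu => (((hρ _).1 ?_) : (y - fE' ⟨x, hx⟩).1 ∈ maximalIdeal (S ⧸ Q)) (hu.map Dt.val)
        show ρ (y.1 - Ideal.Quotient.mk Q x) = 0
        rw [map_sub, hρmk, hxy, sub_self]
      refine Submodule.mem_sup.2 ⟨fE' ⟨x, hx⟩, ⟨_, rfl⟩, y - fE' ⟨x, hx⟩, ?_, add_sub_cancel _ _⟩
      rw [Ideal.smul_top_eq_map, Submodule.restrictScalars_mem, hm]
      exact h2
    obtain ⟨e, he⟩ := htop (Submodule.mem_top : (⟨z, hzDt⟩ : Dt) ∈ _)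
    exact ⟨e.1, (mem_indEtale_iff k' _).2 ⟨E, hEk', e.2⟩, congrArg Subtype.val he⟩
  haveI := isNoetherianRing_indEtale (A := A) (S := S) k'
  let φW : W →+* TD := ((Ideal.Quotient.mk Q).comp W.val.toRingHom).codRestrict TD fun w => hWT w.1 w.2
  haveI : IsNoetherianRing TD := isNoetherianRing_of_surjective W TD φW fun ⟨z, hz⟩ => by
    obtain ⟨w, hw, hwz⟩ := hTW z hz
    exact ⟨⟨w, hw⟩, Subtype.ext hwz⟩
  haveI : Algebra.IsIntegral D (S ⧸ Q) := Algebra.IsIntegral.tower_top (R := A)
  haveI : Module.Finite D TD := Module.Finite.iff_fg.2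
    (fg_adjoin_of_finite lifts.finite_toSet fun x _ => Algebra.IsIntegral.isIntegral x)
  letI : Algebra (D ⧸ p) TD := (ψ.codRestrict TD fun x => by
    obtain ⟨d, rfl⟩ := Ideal.Quotient.mk_surjective x
    exact TD.algebraMap_mem d).toAlgebra
  haveI : IsScalarTower D (D ⧸ p) TD := ⟨fun d x t => by
    obtain ⟨x, rfl⟩ := Ideal.Quotient.mk_surjective x
    rw [show (d • Ideal.Quotient.mk p x : D ⧸ p) = Ideal.Quotient.mk p (d * x) from rfl, Algebra.smul_def,
      Algebra.smul_def, Algebra.smul_def, map_mul, map_mul, mul_assoc]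
    rfl⟩
  haveI : Module.Finite (D ⧸ p) TD := Module.Finite.of_restrictScalars_finite D (D ⧸ p) TD
  haveI : FaithfulSMul (D ⧸ p) TD := (faithfulSMul_iff_algebraMap_injective _ _).2 fun x y h =>
    hψinj (congrArg Subtype.val h)
  exact S16547.isNoetherianRing_of_finite (A := TD)

end Groth.Agent.EssEtGal7
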