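import Groth.Agent.Hensel.IntegralStrict
import Mathlib

/-! Maximal ideals of a tensor product against points of the residue field. -/

set_option autoImplicit false
set_option linter.style.haveILetI false
universe u

open IsLocalRing TensorProduct

namespace Groth.Agent.EssEtGal7

variable (A : Type u) [CommRing A] [IsLocalRing A] (E : Type u) [CommRing E] [IsLocalRing E] [Algebra A E]
  [IsLocalHom (algebraMap A E)] (B : Type u) [CommRing B] [IsLocalRing B] [Algebra A B]
  [IsLocalHom (algebraMap A B)] [Algebra.IsIntegral A B]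

set_option maxHeartbeats 800000 in
/-- The maximal ideals of `E ⊗ B` are the points of the residue field of `B`, faithfully exactly when the
separable part lands in the residue field of `E`. -/
theorem exists_maximalSpectrum_points (K : Type u) [Field K] [IsAlgClosed K] [Algebra (ResidueField A) K]
    (jE : ResidueField E →ₐ[ResidueField A] K) :
    ∃ F : (ResidueField B →ₐ[ResidueField A] K) → MaximalSpectrum (E ⊗[A] B), Function.Surjective F ∧
      (Function.Injective F ↔ ∀ (σ : ResidueField B →ₐ[ResidueField A] K) (y : ResidueField B),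
        IsSeparable (ResidueField A) y → σ y ∈ jE.range) := by
  classical
  letI : Algebra A K := ((algebraMap (ResidueField A) K).comp (residue A)).toAlgebra
  haveI : IsScalarTower A (ResidueField A) K := IsScalarTower.of_algebraMap_eq fun _ => rfl
  let fE : E →ₐ[A] K := (jE.restrictScalars A).comp (IsScalarTower.toAlgHom A E (ResidueField E))
  let fB : (ResidueField B →ₐ[ResidueField A] K) → (B →ₐ[A] K) := fun σ =>
    (σ.restrictScalars A).comp (IsScalarTower.toAlgHom A B (ResidueField B))
  let ψ : (ResidueField B →ₐ[ResidueField A] K) → (E ⊗[A] B →ₐ[A] K) := fun σ =>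
    Algebra.TensorProduct.lift fE (fB σ) fun _ _ => Commute.all _ _
  have hψE : ∀ σ s, ψ σ (s ⊗ₜ 1) = jE (residue E s) := fun σ s => by
    simp only [ψ, Algebra.TensorProduct.lift_tmul, map_one, mul_one]; rfl
  have hψB : ∀ σ b, ψ σ (1 ⊗ₜ b) = σ (residue B b) := fun σ b => by
    simp only [ψ, Algebra.TensorProduct.lift_tmul, map_one, one_mul]; rfl
  have hker : ∀ σ, (RingHom.ker (ψ σ)).IsMaximal := fun σ => by
    haveI : (RingHom.ker (ψ σ)).IsPrime := RingHom.ker_isPrime _
    refine Ideal.isMaximal_of_isIntegral_of_isMaximal_comap (R := E) _ ?_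
    have : (RingHom.ker (ψ σ)).comap (algebraMap E (E ⊗[A] B)) = maximalIdeal E := by
      ext s
      rw [Ideal.mem_comap, RingHom.mem_ker, Algebra.TensorProduct.algebraMap_apply, Algebra.algebraMap_self,
        RingHom.id_apply, hψE, map_eq_zero, residue_eq_zero_iff]
    rw [this]
    infer_instance
  let F : (ResidueField B →ₐ[ResidueField A] K) → MaximalSpectrum (E ⊗[A] B) := fun σ => ⟨RingHom.ker (ψ σ), hker σ⟩
  -- data attached to a maximal ideal
  have main : ∀ n : MaximalSpectrum (E ⊗[A] B),
      ∃ (L : Type u) (_ : Field L) (_ : Algebra (ResidueField E) L) (_ : Algebra.IsAlgebraic (ResidueField E) L)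
        (_ : Algebra (ResidueField A) L) (_ : IsScalarTower (ResidueField A) (ResidueField E) L)
        (ι : ResidueField B →ₐ[ResidueField A] L) (π : E ⊗[A] B →+* L),
        Function.Surjective π ∧ RingHom.ker π = n.asIdeal ∧
        (∀ s, π (s ⊗ₜ 1) = algebraMap (ResidueField E) L (residue E s)) ∧ ∀ b, π (1 ⊗ₜ b) = ι (residue B b) := by
    intro n
    haveI := n.isMaximal
    let L := (E ⊗[A] B) ⧸ n.asIdeal
    letI : Field L := Ideal.Quotient.field n.asIdeal
    have hn : n.asIdeal.comap (algebraMap E (E ⊗[A] B)) = maximalIdeal E :=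
      IsLocalRing.eq_maximalIdeal (Ideal.isMaximal_comap_of_isIntegral_of_isMaximal n.asIdeal)
    letI algE : Algebra (ResidueField E) L :=
      (Ideal.Quotient.lift (maximalIdeal E) ((Ideal.Quotient.mk n.asIdeal).comp (algebraMap E (E ⊗[A] B))) fun s hs =>
        Ideal.Quotient.eq_zero_iff_mem.2 (hn.ge hs)).toAlgebra
    haveI : IsScalarTower E (ResidueField E) L := .of_algebraMap_eq fun _ => rfl
    haveI : Algebra.IsIntegral (ResidueField E) L := Algebra.IsIntegral.tower_top (R := E)
    letI : Algebra (ResidueField A) L :=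
      ((algebraMap (ResidueField E) L).comp (algebraMap (ResidueField A) (ResidueField E))).toAlgebra
    haveI : IsScalarTower (ResidueField A) (ResidueField E) L := .of_algebraMap_eq fun _ => rfl
    let iR : B →+* E ⊗[A] B := (Algebra.TensorProduct.includeRight : B →ₐ[A] E ⊗[A] B).toRingHom
    have hcomm : iR.comp (algebraMap A B) = (algebraMap E (E ⊗[A] B)).comp (algebraMap A E) := RingHom.ext fun a => by
      simp only [iR, AlgHom.toRingHom_eq_coe, RingHom.comp_apply, RingHom.coe_coe, AlgHom.commutes, ← IsScalarTower.algebraMap_apply]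
    haveI : (n.asIdeal.comap iR).IsPrime := Ideal.IsPrime.comap iR
    have hm : n.asIdeal.comap iR = maximalIdeal B := by
      refine IsLocalRing.eq_maximalIdeal (Ideal.isMaximal_of_isIntegral_of_isMaximal_comap (R := A) _ ?_)
      rw [Ideal.comap_comap, hcomm, ← Ideal.comap_comap, hn, IsLocalRing.maximalIdeal_comap]
      infer_instance
    let ι₀ : ResidueField B →+* L := Ideal.Quotient.lift (maximalIdeal B) ((Ideal.Quotient.mk n.asIdeal).comp iR)
      fun b hb => Ideal.Quotient.eq_zero_iff_mem.2 (hm.ge hb)
    let ι : ResidueField B →ₐ[ResidueField A] L :=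
      { ι₀ with
        commutes' := fun x => by
          obtain ⟨a, rfl⟩ := residue_surjective x
          exact congrArg (Ideal.Quotient.mk n.asIdeal) (RingHom.congr_fun hcomm a) }
    exact ⟨L, inferInstance, algE, Algebra.IsIntegral.isAlgebraic, inferInstance, inferInstance, ι,
      Ideal.Quotient.mk n.asIdeal, Ideal.Quotient.mk_surjective, Ideal.mk_ker, fun _ => rfl, fun _ => rfl⟩
  letI : Algebra (ResidueField E) K := jE.toRingHom.toAlgebra
  haveI : IsScalarTower (ResidueField A) (ResidueField E) K := .of_algebraMap_eq fun x => (jE.commutes x).symm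
  refine ⟨F, fun n => ?_, ?_, ?_⟩
  · obtain ⟨L, _, _, _, _, _, ι, π, -, hπk, hπE, hπB⟩ := main n
    let g : L →ₐ[ResidueField E] K := IsAlgClosed.lift
    refine ⟨(g.restrictScalars (ResidueField A)).comp ι, MaximalSpectrum.ext ?_⟩
    have h : ∀ x, ψ ((g.restrictScalars (ResidueField A)).comp ι) x = g (π x) := fun x => by
      induction x using TensorProduct.induction_on with
      | zero => simp
      | tmul s b =>
        rw [show s ⊗ₜ[A] b = (s ⊗ₜ[A] (1 : B)) * ((1 : E) ⊗ₜ[A] b) by simp, map_mul, map_mul, map_mul, hψE, hψB, hπE, hπB,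
          g.commutes]
        rfl
      | add x y hx hy => rw [map_add, map_add, map_add, hx, hy]
    rw [← hπk]
    ext x
    show ψ _ x = 0 ↔ π x = 0
    rw [h, map_eq_zero]
  · intro hinj σ y hy
    obtain ⟨L, _, _, _, _, _, ι, π, hπs, hπk, hπE, hπB⟩ := main (F σ)
    have hg : ∀ g : L →ₐ[ResidueField E] K, (g.restrictScalars (ResidueField A)).comp ι = σ ∧
        ∀ x, g (π x) = ψ σ x := by
      intro g
      let τ := (g.restrictScalars (ResidueField A)).comp ι
      have h : ∀ x, ψ τ x = g (π x) := fun x => by
        induction x using TensorProduct.induction_on with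
        | zero => simp
        | tmul s b =>
          rw [show s ⊗ₜ[A] b = (s ⊗ₜ[A] (1 : B)) * ((1 : E) ⊗ₜ[A] b) by simp, map_mul, map_mul, map_mul, hψE, hψB, hπE, hπB,
            g.commutes]
          rfl
        | add x y hx hy => rw [map_add, map_add, map_add, hx, hy]
      have hF : F τ = F σ := MaximalSpectrum.ext (Ideal.ext fun x => by
        show ψ τ x = 0 ↔ x ∈ (F σ).asIdeal
        rw [h, map_eq_zero, ← hπk, RingHom.mem_ker])
      have hτ : τ = σ := hinj hF
      exact ⟨hτ, fun x => by rw [← h, hτ]⟩
    haveI : Subsingleton (L →ₐ[ResidueField E] K) := ⟨fun g g' => AlgHom.ext fun z => by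
      obtain ⟨x, rfl⟩ := hπs z
      rw [(hg g).2, (hg g').2]⟩
    haveI : IsPurelyInseparable (ResidueField E) L := by
      rw [isPurelyInseparable_iff_subsingleton_emb]
      refine ⟨fun a b => ?_⟩
      exact (Field.embEquivOfIsAlgClosed (ResidueField E) L K).injective (Subsingleton.elim _ _)
    have hsep : IsSeparable (ResidueField E) (ι y) :=
      IsSeparable.tower_top (ResidueField E) (IsSeparable.map ι ι.toRingHom.injective hy)
    obtain ⟨e, he⟩ := IsPurelyInseparable.inseparable (ResidueField E) (ι y) hsep
    let g : L →ₐ[ResidueField E] K := IsAlgClosed.lift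
    refine ⟨e, ?_⟩
    rw [← congr($((hg g).1) y)]
    show jE e = g (ι y)
    rw [← he, g.commutes]
    rfl
  · intro hsep σ σ' hF
    obtain ⟨L, _, _, _, _, _, ι, π, hπs, hπk, hπE, hπB⟩ := main (F σ)
    have hF' : RingHom.ker (ψ σ') = RingHom.ker π := by
      rw [hπk]; exact (congrArg MaximalSpectrum.asIdeal hF).symm
    have hy : ∀ y, IsSeparable (ResidueField A) y → σ y = σ' y := by
      intro y hy
      obtain ⟨e, he⟩ := hsep σ y hy
      obtain ⟨b, rfl⟩ := residue_surjective y
      obtain ⟨s, rfl⟩ := residue_surjective e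
      have h1 : s ⊗ₜ[A] (1 : B) - (1 : E) ⊗ₜ[A] b ∈ RingHom.ker (ψ σ) := by
        rw [RingHom.mem_ker, map_sub, hψE, hψB, sub_eq_zero]
        exact he
      have h2 : s ⊗ₜ[A] (1 : B) - (1 : E) ⊗ₜ[A] b ∈ RingHom.ker (ψ σ') := by
        rw [hF', hπk]; exact h1
      rw [RingHom.mem_ker, map_sub, hψE, hψB, sub_eq_zero] at h2
      exact he.symm.trans h2
    refine AlgHom.ext fun x => ?_
    haveI : Algebra.IsIntegral (ResidueField A) (ResidueField B) := ⟨fun x => by
      obtain ⟨b, rfl⟩ := residue_surjective x
      exact ((Algebra.IsIntegral.isIntegral (R := A) b).map (IsScalarTower.toAlgHom A B (ResidueField B))).tower_top⟩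
    haveI : Algebra.IsAlgebraic (ResidueField A) (ResidueField B) := Algebra.IsIntegral.isAlgebraic
    let Ks := separableClosure (ResidueField A) (ResidueField B)
    haveI : IsPurelyInseparable Ks (ResidueField B) := separableClosure.isPurelyInseparable _ _
    haveI := ringExpChar.expChar K
    haveI : ExpChar Ks (ringExpChar K) :=
      ((σ.toRingHom).comp (algebraMap Ks (ResidueField B))).expChar ((σ.toRingHom).comp (algebraMap Ks (ResidueField B))).injective _
    obtain ⟨m, z, hz⟩ := IsPurelyInseparable.pow_mem Ks (ringExpChar K) x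
    refine iterateFrobenius_inj K (ringExpChar K) m ?_
    rw [iterateFrobenius_def, iterateFrobenius_def, ← map_pow, ← map_pow, ← hz]
    exact hy _ (mem_separableClosure_iff.1 z.2)

end Groth.Agent.EssEtGal7
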