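import Groth.Agent.EssEtGal7.GeomBr
import Mathlib

/-! Finitely many embeddings against finite separable part. -/

set_option autoImplicit false
set_option linter.style.haveILetI false
universe u v

open IsLocalRing

namespace Groth.Agent.EssEtGal7

/-- A separable extension with finitely many points is finite. -/
theorem finiteDimensional_of_finite_algHom {F l K : Type*} [Field F] [Field l] [Field K] [Algebra F l] [Algebra F K]
    [IsAlgClosed K] [Algebra.IsSeparable F l] [Finite (l →ₐ[F] K)] : FiniteDimensional F l := by
  classical
  have hb : ∀ F' : IntermediateField F l, FiniteDimensional F F' →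
      Module.finrank F F' ≤ Nat.card (l →ₐ[F] K) := fun F' h => by
    haveI := h
    haveI : Algebra.IsSeparable F F' := Algebra.isSeparable_tower_bot_of_isSeparable F F' l
    rw [← AlgHom.card F F' K, ← Nat.card_eq_fintype_card]
    refine Nat.card_le_card_of_surjective (fun σ => σ.comp F'.val) fun τ => ?_
    letI : Algebra F' K := τ.toRingHom.toAlgebra
    haveI : IsScalarTower F F' K := IsScalarTower.of_algebraMap_eq fun x => (τ.commutes x).symm
    let σ : l →ₐ[F'] K := IsAlgClosed.lift
    exact ⟨σ.restrictScalars F, AlgHom.ext fun x => σ.commutes x⟩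
  let T : Set ℕ := {n | ∃ F' : IntermediateField F l, FiniteDimensional F F' ∧ Module.finrank F F' = n}
  have hT : T.Nonempty := ⟨_, ⊥, inferInstance, rfl⟩
  have hTb : BddAbove T := ⟨Nat.card (l →ₐ[F] K), fun n ⟨F', h, hn⟩ => hn ▸ hb F' h⟩
  obtain ⟨F', hfin, hF'⟩ := Nat.sSup_mem hT hTb
  haveI := hfin
  have htop : F' = ⊤ := by
    refine eq_top_iff.2 fun x _ => ?_
    let F'' : IntermediateField F l := F' ⊔ IntermediateField.adjoin F {x}
    haveI : FiniteDimensional F (IntermediateField.adjoin F ({x} : Set l)) :=
      IntermediateField.adjoin.finiteDimensional (Algebra.IsSeparable.isSeparable F x).isIntegral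
    haveI : FiniteDimensional F F'' := IntermediateField.finiteDimensional_sup _ _
    have hle : Module.finrank F F'' ≤ Module.finrank F F' := hF' ▸ le_csSup hTb ⟨F'', inferInstance, rfl⟩
    have := IntermediateField.eq_of_le_of_finrank_le (show F' ≤ F'' from le_sup_left) hle
    rw [this]
    exact (le_sup_right : _ ≤ F'') (IntermediateField.mem_adjoin_simple_self F x)
  subst htop
  exact Module.Finite.equiv IntermediateField.topEquiv.toLinearEquiv

theorem mem_closure_range_iff {R : Type u} [CommRing R] {l : Type v} [Field l] (φ : R →+* l) (hφ : φ.IsIntegral)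
    (x : l) : x ∈ Subfield.closure (Set.range φ) ↔ x ∈ φ.range := by
  refine ⟨fun hx => ?_, fun hx => Subfield.subset_closure hx⟩
  letI := φ.range.toCommRing
  haveI : Algebra.IsIntegral φ.range l := ⟨fun x => by
    obtain ⟨P, hP, hP0⟩ := hφ x
    refine ⟨P.map φ.rangeRestrict, hP.map _, ?_⟩
    rw [Polynomial.eval₂_map]
    exact hP0⟩
  have hfield : IsField φ.range := isField_of_isIntegral_of_isField Subtype.val_injective (Field.toIsField l)
  let K : Subfield l :=
    { φ.range with
      inv_mem' := fun x hx => by
        rcases eq_or_ne x 0 with rfl | h0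
        · rw [inv_zero]; exact φ.range.zero_mem
        · obtain ⟨y, hy⟩ := hfield.mul_inv_cancel (a := (⟨x, hx⟩ : φ.range)) (fun h => h0 (congrArg Subtype.val h))
          have h1 : x * (y : l) = 1 := congrArg Subtype.val hy
          rw [← eq_inv_of_mul_eq_one_right h1]
          exact y.2 }
  exact (Subfield.closure_le (t := K)).2 (fun y hy => hy) hx

/-- Finite separable part iff finitely many embeddings over a given map. -/
theorem finite_sepClosure_iff {R : Type u} [CommRing R] {l : Type v} [Field l] {K : Type*} [Field K] [IsAlgClosed K]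
    (φ : R →+* l) (hφ : φ.IsIntegral) (g : R →+* K) (hk : ∀ x, φ x = 0 → g x = 0) :
    FiniteDimensional (Subfield.closure (Set.range φ)) (separableClosure (Subfield.closure (Set.range φ)) l) ↔
      Finite {σ : l →+* K // σ.comp φ = g} := by
  classical
  let F := Subfield.closure (Set.range φ)
  let φ' : R →+* F := φ.codRestrict F fun r => Subfield.subset_closure ⟨r, rfl⟩
  have hsurj : Function.Surjective φ' := fun y => by
    obtain ⟨r, hr⟩ := (mem_closure_range_iff φ hφ y.1).1 y.2
    exact ⟨r, Subtype.ext hr⟩
  let i : F →+* K := φ'.liftOfSurjective hsurj ⟨g, fun x hx => hk x (congrArg Subtype.val (RingHom.mem_ker.1 hx))⟩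
  have hi : ∀ r, i (φ' r) = g r := fun r => RingHom.liftOfRightInverse_comp_apply _ _ _ _ r
  letI : Algebra F K := i.toAlgebra
  haveI : Algebra.IsIntegral F l := ⟨fun x => by
    obtain ⟨P, hP, hP0⟩ := hφ x
    refine ⟨P.map φ', hP.map _, ?_⟩
    rw [Polynomial.eval₂_map]
    exact hP0⟩
  haveI : Algebra.IsAlgebraic F l := Algebra.IsIntegral.isAlgebraic
  let e : {σ : l →+* K // σ.comp φ = g} ≃ (l →ₐ[F] K) :=
    { toFun := fun σ => AlgHom.mk σ.1 (fun x => by
        obtain ⟨r, rfl⟩ := hsurj x
        show σ.1 (φ r) = i (φ' r)
        rw [hi]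
        exact RingHom.congr_fun σ.2 r)
      invFun := fun τ => ⟨τ.toRingHom, RingHom.ext fun r => (τ.commutes (φ' r)).trans (hi r)⟩
      left_inv := fun _ => rfl
      right_inv := fun _ => rfl }
  rw [e.finite_iff]
  let Ks := separableClosure F l
  haveI : Algebra.IsSeparable F Ks := separableClosure.isSeparable F l
  haveI : IsPurelyInseparable Ks l := separableClosure.isPurelyInseparable F l
  constructor
  · intro h
    haveI := h
    refine Finite.of_injective (fun σ : l →ₐ[F] K => σ.comp Ks.val) fun σ σ' hσ => ?_
    letI : Algebra Ks K := (σ.comp Ks.val).toRingHom.toAlgebra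
    let a : l →ₐ[Ks] K := { σ.toRingHom with commutes' := fun _ => rfl }
    let b : l →ₐ[Ks] K := { σ'.toRingHom with commutes' := fun x => (congr($hσ x)).symm }
    have hab : a = b := Subsingleton.elim _ _
    exact AlgHom.ext fun x => congr($hab x)
  · intro h
    haveI := h
    haveI : Finite (Ks →ₐ[F] K) := Finite.of_surjective (fun σ : l →ₐ[F] K => σ.comp Ks.val) fun τ => by
      letI : Algebra Ks K := τ.toRingHom.toAlgebra
      haveI : IsScalarTower F Ks K := IsScalarTower.of_algebraMap_eq fun x => (τ.commutes x).symm
      haveI : Algebra.IsAlgebraic Ks l := Algebra.IsAlgebraic.tower_top (K := F) Ks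
      let σ : l →ₐ[Ks] K := IsAlgClosed.lift
      exact ⟨σ.restrictScalars F, AlgHom.ext fun x => σ.commutes x⟩
    exact finiteDimensional_of_finite_algHom (K := K)

/-- Normalizations of isomorphic rings. -/
theorem exists_icEquiv {R R' : Type u} [CommRing R] [CommRing R'] (e : R ≃+* R') :
    ∃ g : integralClosure R (FractionRing R) ≃+* integralClosure R' (FractionRing R'),
      ∀ r, g (algebraMap R _ r) = algebraMap R' _ (e r) := by
  let f : FractionRing R ≃+* FractionRing R' := IsFractionRing.ringEquivOfRingEquiv e
  have hf : ∀ r, f (algebraMap R _ r) = algebraMap R' _ (e r) := fun r => IsFractionRing.ringEquivOfRingEquiv_algebraMap e r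
  let g : integralClosure R (FractionRing R) →+* integralClosure R' (FractionRing R') :=
    (f.toRingHom.comp (integralClosure R (FractionRing R)).val.toRingHom).codRestrict _ fun x =>
      IsIntegral.map_of_comp_eq e.toRingHom f.toRingHom (RingHom.ext fun r => (hf r).symm) x.2
  have hg : Function.Surjective g := fun y => by
    refine ⟨⟨f.symm y.1, IsIntegral.map_of_comp_eq e.symm.toRingHom f.symm.toRingHom (RingHom.ext fun r => ?_) y.2⟩,
      Subtype.ext (f.apply_symm_apply _)⟩
    show algebraMap R _ (e.symm r) = f.symm (algebraMap R' _ r)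
    apply f.injective
    rw [hf, RingEquiv.apply_symm_apply, RingEquiv.apply_symm_apply]
  exact ⟨RingEquiv.ofBijective g ⟨fun x y h => Subtype.ext (f.injective (congrArg Subtype.val h)), hg⟩,
    fun r => Subtype.ext (hf r)⟩

/-- Finite separable residue extensions of the normalization iff finitely many embeddings. -/
theorem finite_sep_iff_emb (D : Type u) [CommRing D] [IsLocalRing D] [IsReduced D] :
    (∀ (M : Ideal (integralClosure D (FractionRing D))) [M.IsMaximal],
        FiniteDimensional (Subfield.closure (Set.range ((algebraMap (integralClosure D (FractionRing D)) M.ResidueField).comp (algebraMap D (integralClosure D (FractionRing D)))))) (separableClosure (Subfield.closure (Set.range ((algebraMap (integralClosure D (FractionRing D)) M.ResidueField).comp (algebraMap D (integralClosure D (FractionRing D)))))) M.ResidueField)) ↔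
      ∀ m : MaximalSpectrum (CAlg2.normRed D), Finite (Brnch.Emb D m) := by
  let e : CAlg2.red D ≃+* D :=
    (Ideal.quotEquivOfEq (show nilradical D = ⊥ by rw [nilradical_eq_zero D]; rfl)).trans (RingEquiv.quotientBot D)
  have he : ∀ a, e (Ideal.Quotient.mk (nilradical D) a) = a := fun a => rfl
  obtain ⟨g, hg⟩ := exists_icEquiv e
  have key : ∀ (M : Ideal (integralClosure D (FractionRing D))) [M.IsMaximal] (m : MaximalSpectrum (CAlg2.normRed D)),
      m.asIdeal = M.comap g.toRingHom →
      (FiniteDimensional (Subfield.closure (Set.range ((algebraMap (integralClosure D (FractionRing D)) M.ResidueField).comp (algebraMap D (integralClosure D (FractionRing D)))))) (separableClosure (Subfield.closure (Set.range ((algebraMap (integralClosure D (FractionRing D)) M.ResidueField).comp (algebraMap D (integralClosure D (FractionRing D)))))) M.ResidueField) ↔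
        Finite (Brnch.Emb D m)) := by
    intro M _ m hm
    rw [finite_sepClosure_iff (K := AlgebraicClosure (ResidueField D)) _ (isIntegral_residue M) (Brnch.toClosure D) fun x hx => by
      have hnu : ¬ IsUnit x := fun hu => by
        have := hu.map ((algebraMap (integralClosure D (FractionRing D)) M.ResidueField).comp (algebraMap D (integralClosure D (FractionRing D))))
        rw [hx] at this
        exact not_isUnit_zero this
      show algebraMap (ResidueField D) (AlgebraicClosure (ResidueField D)) (residue D x) = 0
      rw [(residue_eq_zero_iff x).2 hnu, map_zero]]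
    let b : integralClosure D (FractionRing D) ⧸ M ≃+* M.ResidueField :=
      RingEquiv.ofBijective _ (Ideal.bijective_algebraMap_quotient_residueField M)
    let q : CAlg2.normRed D ⧸ m.asIdeal ≃+* integralClosure D (FractionRing D) ⧸ M :=
      Ideal.quotientEquiv _ _ g (by
        rw [hm]
        exact (Ideal.map_comap_of_surjective g.toRingHom g.surjective M).symm)
    let r : CAlg2.normRed D ⧸ m.asIdeal ≃+* M.ResidueField := q.trans b
    obtain ⟨eq⟩ := BrnchLib.embSubtype_equiv (X := CAlg2.normRed D ⧸ m.asIdeal) (X' := M.ResidueField) (Brnch.toResidue D m)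
      ((algebraMap (integralClosure D (FractionRing D)) M.ResidueField).comp (algebraMap D (integralClosure D (FractionRing D))))
      (Brnch.toClosure D) (Brnch.toClosure D) (RingHom.id D) Function.surjective_id r (RingEquiv.refl _)
      (fun a => by
        show b (q (Ideal.Quotient.mk m.asIdeal (algebraMap (CAlg2.red D) (CAlg2.normRed D) (Ideal.Quotient.mk _ a)))) = _
        rw [Ideal.quotientEquiv_mk, hg, he]
        exact (IsScalarTower.algebraMap_apply (integralClosure D (FractionRing D))
          (integralClosure D (FractionRing D) ⧸ M) M.ResidueField (algebraMap D _ a)).symm) (fun _ => rfl)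
    exact eq.symm.finite_iff
  constructor
  · intro h m
    haveI := m.isMaximal
    haveI : (m.asIdeal.comap g.symm.toRingHom).IsMaximal := Ideal.comap_isMaximal_of_surjective _ g.symm.surjective
    refine (key (m.asIdeal.comap g.symm.toRingHom) m ?_).1 (h _)
    rw [Ideal.comap_comap, show g.symm.toRingHom.comp g.toRingHom = RingHom.id _ from RingHom.ext g.symm_apply_apply,
      Ideal.comap_id]
  · intro h M hM
    have hm' : (M.comap g.toRingHom).IsMaximal := Ideal.comap_isMaximal_of_surjective _ g.surjective
    exact (key M ⟨M.comap g.toRingHom, hm'⟩ rfl).2 (h _)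

end Groth.Agent.EssEtGal7
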