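import Groth.Agent.EssEtFrac5.Sub
import Groth.Agent.Hensel.EtaleResidueExt
import Groth.Agent.S0504
import Groth.Agent.S0505
import Mathlib

/-! Finite étale Galois stages of the strict henselization of a henselian local ring. -/

set_option autoImplicit false
set_option linter.style.haveILetI false
universe u v

open TensorProduct IsLocalRing

namespace Groth.Agent.EssEtGal7

theorem henselianRing_max (A : Type u) [CommRing A] [HenselianLocalRing A] :
    HenselianRing A (maximalIdeal A) where
  jac := le_of_eq (IsLocalRing.jacobson_eq_maximalIdeal ⊥ bot_ne_top).symm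
  is_henselian f hf a₀ h₁ h₂ := HenselianLocalRing.is_henselian f hf a₀ h₁ (by
    by_contra h
    have h' : f.derivative.eval a₀ ∈ maximalIdeal A := h
    rw [Ideal.Quotient.eq_zero_iff_mem.2 h'] at h₂
    exact not_isUnit_zero h₂)

/-- A finite étale algebra factor through which a map from an étale algebra to a local ring factors. -/
theorem exists_finite_factor (A S : Type u) [CommRing A] [HenselianLocalRing A] [CommRing S] [IsLocalRing S]
    [Algebra A S] [IsLocalHom (algebraMap A S)] {C : Type u} [CommRing C] [Algebra A C] [Algebra.Etale A C]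
    (π : C →ₐ[A] S) :
    ∃ (C₁ : Type u) (_ : CommRing C₁) (_ : Algebra A C₁) (_ : Module.Finite A C₁) (_ : Algebra.Etale A C₁)
      (p : C →ₐ[A] C₁) (π₁ : C₁ →ₐ[A] S), π₁.comp p = π := by
  obtain ⟨e, he, hfin, hq⟩ := Groth.Agent.S0504.result A C
  let q : Ideal C := (maximalIdeal S).comap π.toRingHom
  have heq : e ∉ q := by
    intro hmem
    have hle : Ideal.span {e} ≤ q := (Ideal.span_singleton_le_iff_mem _).2 hmem
    let q' : Ideal (C ⧸ Ideal.span {e}) := q.map (Ideal.Quotient.mk _)
    haveI : q'.IsPrime := Ideal.map_isPrime_of_surjective Ideal.Quotient.mk_surjective (by rw [Ideal.mk_ker]; exact hle)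
    haveI : q'.LiesOver (maximalIdeal A) := ⟨by
      have h : q'.comap (Ideal.Quotient.mk (Ideal.span {e})) = q := by
        rw [Ideal.comap_map_of_surjective _ Ideal.Quotient.mk_surjective, ← RingHom.ker_eq_comap_bot, Ideal.mk_ker]
        exact sup_eq_left.2 hle
      rw [Ideal.under, IsScalarTower.algebraMap_eq A C (C ⧸ Ideal.span {e}), ← Ideal.comap_comap,
        Ideal.Quotient.algebraMap_eq, h, Ideal.comap_comap,
        show π.toRingHom.comp (algebraMap A C) = algebraMap A S from π.comp_algebraMap]
      exact (IsLocalRing.maximalIdeal_comap (algebraMap A S)).symm⟩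
    exact hq q' inferInstance inferInstance
  let C₁ := C ⧸ Ideal.span ({1 - e} : Set C)
  haveI : Algebra.Etale C C₁ := by
    haveI : IsLocalization.Away e C₁ := IsLocalization.away_of_isIdempotentElem he (Ideal.mk_ker) Ideal.Quotient.mk_surjective
    exact Algebra.Etale.of_isLocalizationAway e
  haveI : Algebra.Etale A C₁ := Algebra.Etale.comp A C C₁
  have hπe : π e = 1 :=
    (IsLocalRing.notMem_maximalIdeal.1 heq).mul_left_cancel ((he.map π).eq.trans (mul_one _).symm)
  refine ⟨C₁, inferInstance, inferInstance, hfin, inferInstance, Ideal.Quotient.mkₐ A _,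
    Ideal.Quotient.liftₐ _ π (fun x hx => ?_), Ideal.Quotient.liftₐ_comp _ _ _⟩
  obtain ⟨c, rfl⟩ := Ideal.mem_span_singleton'.1 hx
  rw [map_mul, map_sub, map_one, hπe, sub_self, mul_zero]

/-- Every finite set lies in a finite étale local algebra all whose points are conjugate. -/
theorem exists_galois_stage (A S : Type u) [CommRing A] [HenselianLocalRing A] [CommRing S] [IsLocalRing S]
    [Algebra A S] [IsLocalHom (algebraMap A S)] [Hensel.IsStrictHenselization A S] (T : Finset S) :
    ∃ (E : Type u) (_ : CommRing E) (_ : IsLocalRing E) (_ : Algebra A E) (_ : IsLocalHom (algebraMap A E))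
      (_ : Module.Finite A E) (_ : Algebra.Etale A E) (j : E →ₐ[A] S),
      (∀ t ∈ T, t ∈ j.range) ∧ IsLocalHom j.toRingHom ∧
      ∀ (M : Type u) [Field M] [Algebra A M] (σ₀ : S →ₐ[A] M) (τ : E →ₐ[A] M),
        ∃ γ : E →ₐ[A] E, τ = (σ₀.comp j).comp γ := by
  classical
  haveI := Hensel.IsStrictHenselization.henselian (R := A) (S := S)
  haveI := Hensel.IsStrictHenselization.isSepClosure (R := A) (S := S)
  haveI := henselianRing_max S
  let k := ResidueField A
  let ks := ResidueField S
  haveI : Algebra.IsSeparable k ks := IsSepClosure.separable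
  haveI : IsSepClosed ks := IsSepClosure.sep_closed k
  obtain ⟨C, _, _, _, π, hπ⟩ := HenselConn.hasEtLift_strict A S T
  obtain ⟨C₁, _, _, _, _, p, π₁, hπ₁⟩ := exists_finite_factor A S π
  let φ₁ : C₁ →ₐ[A] ks := (IsScalarTower.toAlgHom A S ks).comp π₁
  obtain ⟨G, hG⟩ := Module.Finite.fg_top (R := A) (M := C₁)
  let F₀ : IntermediateField k ks := IntermediateField.adjoin k (φ₁ '' (G : Set C₁))
  haveI : FiniteDimensional k F₀ := IntermediateField.finiteDimensional_adjoin fun x _ =>
    (Algebra.IsSeparable.isSeparable k x).isIntegral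
  let k' : IntermediateField k ks := IntermediateField.normalClosure k F₀ ks
  haveI : FiniteDimensional k k' := inferInstance
  haveI : Normal k k' := inferInstance
  haveI : Algebra.IsSeparable k k' := Algebra.isSeparable_tower_bot_of_isSeparable k k' ks
  haveI : IsGalois k k' := ⟨⟩
  have hφk : ∀ c, φ₁ c ∈ k' := by
    intro c
    have hc : c ∈ Submodule.span A (G : Set C₁) := hG ▸ Submodule.mem_top
    have hle : F₀ ≤ k' := IntermediateField.le_normalClosure _
    induction hc using Submodule.span_induction with
    | mem x hx => exact hle (IntermediateField.subset_adjoin k _ ⟨x, hx, rfl⟩)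
    | zero => rw [map_zero]; exact zero_mem _
    | add x y _ _ hx hy => rw [map_add]; exact add_mem hx hy
    | smul a x _ hx =>
      rw [map_smul, Algebra.smul_def, IsScalarTower.algebraMap_apply A k ks]
      exact mul_mem (k'.algebraMap_mem _) hx
  obtain ⟨E, _, _, _, _, hfin, hEt, ⟨e⟩⟩ := Hensel.exists_finite_etale_residueField A k'
  haveI := hfin
  haveI := hEt
  haveI : HenselianLocalRing E := Groth.Agent.S0505.result A E
  haveI := henselianRing_max E
  -- the residue map of `E` into `ks`
  let res : E →ₐ[A] k' := ((e : ResidueField E →ₐ[k] k').restrictScalars A).comp (IsScalarTower.toAlgHom A E (ResidueField E))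
  let θ : E →ₐ[A] S ⧸ maximalIdeal S := (k'.val.restrictScalars A).comp res
  obtain ⟨j, hj, -⟩ := Hensel.existsUnique_etale_lift_of_algebra (maximalIdeal S) θ
  have hj' : ∀ x, residue S (j x) = (res x : ks) := fun x => congr($hj x)
  have hjloc : IsLocalHom j.toRingHom := ⟨fun x hx => by
    by_contra hx'
    have h0 : residue E x = 0 := (residue_eq_zero_iff x).2 hx'
    have h : residue S (j x) = 0 := by
      rw [hj']
      show ((e (residue E x) : k') : ks) = 0
      rw [h0, map_zero, ZeroMemClass.coe_zero]
    exact (residue_eq_zero_iff _).1 h hx⟩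
  refine ⟨E, inferInstance, inferInstance, inferInstance, inferInstance, inferInstance, inferInstance, j, ?_, hjloc, ?_⟩
  · -- lifting `C₁`
    intro t ht
    obtain ⟨c, rfl⟩ := hπ t ht
    let φk : C₁ →ₐ[A] k' :=
      { toFun := fun c => ⟨φ₁ c, hφk c⟩
        map_one' := Subtype.ext (map_one φ₁)
        map_mul' := fun x y => Subtype.ext (map_mul φ₁ x y)
        map_zero' := Subtype.ext (map_zero φ₁)
        map_add' := fun x y => Subtype.ext (map_add φ₁ x y)
        commutes' := fun a => Subtype.ext (φ₁.commutes a) }
    let θ₁ : C₁ →ₐ[A] E ⧸ maximalIdeal E :=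
      ((e.symm : k' →ₐ[k] ResidueField E).restrictScalars A).comp φk
    obtain ⟨l, hl, -⟩ := Hensel.existsUnique_etale_lift_of_algebra (maximalIdeal E) θ₁
    have hu : j.comp l = π₁ := by
      obtain ⟨τ, -, hτu⟩ := Hensel.existsUnique_etale_lift_of_algebra (maximalIdeal S)
        ((Ideal.Quotient.mkₐ A (maximalIdeal S)).comp π₁)
      refine (hτu _ ?_).trans (hτu _ rfl).symm
      refine AlgHom.ext fun x => ?_
      show residue S (j (l x)) = residue S (π₁ x)
      rw [hj']
      show ((e (residue E (l x)) : k') : ks) = _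
      rw [show residue E (l x) = e.symm (φk x) from congr($hl x), AlgEquiv.apply_symm_apply]
      rfl
    refine ⟨l (p c), ?_⟩
    show j (l (p c)) = π c
    rw [← hπ₁]
    exact congr($hu (p c))
  · intro M _ _ σ₀ τ
    -- automorphisms
    have hγ : ∀ g : k' ≃ₐ[k] k', ∃ γ : E →ₐ[A] E, ∀ x, residue E (γ x) = e.symm (g (res x)) := fun g => by
      obtain ⟨γ, hγ, -⟩ := Hensel.existsUnique_etale_lift_of_algebra (maximalIdeal E)
        ((((e.symm : k' →ₐ[k] ResidueField E).comp (g : k' →ₐ[k] k')).restrictScalars A).comp res)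
      exact ⟨γ, fun x => congr($hγ x)⟩
    choose γ hγ using hγ
    let Φ : (k' ≃ₐ[k] k') → (E →ₐ[A] M) := fun g => (σ₀.comp j).comp (γ g)
    have hinj : Function.Injective Φ := by
      intro g g' hgg
      refine AlgEquiv.ext fun z => ?_
      obtain ⟨r, hr⟩ := Ideal.Quotient.mk_surjective (e.symm z)
      have hres : res r = z := by
        show e (residue E r) = z
        rw [show residue E r = e.symm z from hr, AlgEquiv.apply_symm_apply]
      have hσ : σ₀ (j (γ g r)) = σ₀ (j (γ g' r)) := congr($hgg r)
      have hker : j (γ g r) - j (γ g' r) ∈ maximalIdeal S := by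
        refine IsLocalRing.le_maximalIdeal (RingHom.ker_ne_top σ₀.toRingHom) ?_
        show σ₀ _ = 0
        rw [map_sub, hσ, sub_self]
      have h2 : residue S (j (γ g r)) = residue S (j (γ g' r)) := Ideal.Quotient.eq.2 hker
      rw [hj', hj'] at h2
      have h3 : e (residue E (γ g r)) = e (residue E (γ g' r)) := Subtype.ext h2
      rwa [hγ, hγ, AlgEquiv.apply_symm_apply, AlgEquiv.apply_symm_apply, hres] at h3
    -- counting
    haveI : Module.Flat A E := inferInstance
    haveI : Module.Free A E := Module.free_of_flat_of_isLocalRing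
    haveI : Algebra.FormallyUnramified A E := inferInstance
    have hrank : Module.finrank A E = Module.finrank k k' := by
      have hm : (maximalIdeal A).map (algebraMap A E) = maximalIdeal E :=
        Algebra.FormallyUnramified.map_maximalIdeal
      rw [← Module.finrank_baseChange (R := k) (S := A) (M' := E)]
      let f : k ⊗[A] E →ₗ[k] k' := (Algebra.TensorProduct.lift (Algebra.ofId k k') res fun _ _ => .all _ _).toLinearMap
      refine LinearEquiv.finrank_eq (LinearEquiv.ofBijective f ⟨?_, ?_⟩)
      · refine LinearMap.ker_eq_bot.1 ((Submodule.eq_bot_iff _).2 fun z hz => ?_)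
        obtain ⟨x, rfl⟩ : ∃ x, (1 : k) ⊗ₜ[A] x = z := by
          clear hz
          induction z using TensorProduct.induction_on with
          | zero => exact ⟨0, TensorProduct.tmul_zero _ _⟩
          | tmul c x =>
            obtain ⟨a, rfl⟩ := residue_surjective c
            exact ⟨a • x, by rw [← TensorProduct.smul_tmul]; congr 1; rw [Algebra.smul_def, mul_one]; rfl⟩
          | add a b ha hb =>
            obtain ⟨x, rfl⟩ := ha; obtain ⟨y, rfl⟩ := hb
            exact ⟨x + y, TensorProduct.tmul_add _ _ _⟩
        have hx0 : residue E x = 0 := by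
          apply e.injective
          rw [map_zero, ← show f ((1 : k) ⊗ₜ[A] x) = 0 from hz]
          show e (residue E x) = Algebra.TensorProduct.lift (Algebra.ofId k k') res (fun _ _ => .all _ _) ((1 : k) ⊗ₜ[A] x)
          rw [Algebra.TensorProduct.lift_tmul, map_one, one_mul]
          rfl
        have hxm : x ∈ (maximalIdeal A) • (⊤ : Submodule A E) := by
          rw [Ideal.smul_top_eq_map, Submodule.restrictScalars_mem, hm]
          exact (residue_eq_zero_iff x).1 hx0
        refine Submodule.smul_induction_on hxm (fun a ha y _ => ?_) (fun a b ha hb => ?_)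
        · rw [TensorProduct.tmul_smul, TensorProduct.smul_tmul', Algebra.smul_def,
            show algebraMap A k a = 0 from (residue_eq_zero_iff a).2 ha, zero_mul, TensorProduct.zero_tmul]
        · rw [TensorProduct.tmul_add, ha, hb, add_zero]
      · intro z
        obtain ⟨r, hr⟩ := Ideal.Quotient.mk_surjective (e.symm z)
        refine ⟨(1 : k) ⊗ₜ r, ?_⟩
        show Algebra.TensorProduct.lift (Algebra.ofId k k') res (fun _ _ => .all _ _) ((1 : k) ⊗ₜ[A] r) = z
        rw [Algebra.TensorProduct.lift_tmul, map_one, one_mul]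
        show e (residue E r) = z
        rw [show residue E r = e.symm z from hr, AlgEquiv.apply_symm_apply]
    haveI : Finite (E →ₐ[A] M) :=
      Finite.of_equiv (M ⊗[A] E →ₐ[M] M) (AlgHom.liftEquiv A M E M).symm
    letI := Fintype.ofFinite (E →ₐ[A] M)
    have hcard : Fintype.card (E →ₐ[A] M) ≤ Fintype.card (k' ≃ₐ[k] k') := by
      rw [← Nat.card_eq_fintype_card (α := k' ≃ₐ[k] k'), IsGalois.card_aut_eq_finrank, ← hrank,
        ← Module.finrank_baseChange (R := M) (S := A) (M' := E), ← Nat.card_eq_fintype_card,
        Nat.card_congr (AlgHom.liftEquiv A M E M)]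
      haveI : Finite (M ⊗[A] E →ₐ[M] M) := inferInstance
      letI := Fintype.ofFinite (M ⊗[A] E →ₐ[M] M)
      rw [Nat.card_eq_fintype_card]
      exact ((linearIndependent_algHom_toLinearMap M (M ⊗[A] E) M).fintype_card_le_finrank).trans
        (by rw [Module.finrank_linearMap_self])
    obtain ⟨g, hg⟩ := (Function.Injective.bijective_of_nat_card_le hinj (by
      rw [Nat.card_eq_fintype_card, Nat.card_eq_fintype_card]; exact hcard)).2 τ
    exact ⟨γ g, hg.symm⟩

end Groth.Agent.EssEtGal7
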