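import Groth.Agent.EssEtGal7.Stage
import Mathlib

/-! The intersection of a finite étale point with a subfield is finite unramified. -/

set_option autoImplicit false
set_option linter.style.haveILetI false
universe u v

open TensorProduct IsLocalRing

namespace Groth.Agent.EssEtGal7

/-- The intersection of the image of a conjugation-stable finite étale local algebra with a subfield. -/
theorem inter_unramified {A E Ω : Type u} [CommRing A] [HenselianLocalRing A] [IsNoetherianRing A]
    [CommRing E] [IsLocalRing E] [Algebra A E] [IsLocalHom (algebraMap A E)] [Module.Finite A E]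
    [Algebra.Etale A E] [Field Ω] [IsAlgClosed Ω] [Algebra A Ω] (σ : E →ₐ[A] Ω)
    (hconj : ∀ τ : E →ₐ[A] Ω, ∃ γ : E →ₐ[A] E, τ = σ.comp γ)
    (L : Subfield Ω) (hAL : ∀ a, algebraMap A Ω a ∈ L) (D : Subalgebra A Ω)
    (hD : (D : Set Ω) = Set.range σ ∩ L) :
    Module.Finite A D ∧ Algebra.FormallyUnramified A D ∧ IsLocalRing D := by
  classical
  haveI : HenselianLocalRing E := Groth.Agent.S0505.result A E
  haveI := henselianRing_max E
  letI : Algebra A L := ((algebraMap A Ω).codRestrict L hAL).toAlgebra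
  haveI : IsScalarTower A L Ω := IsScalarTower.of_algebraMap_eq fun _ => rfl
  haveI : Algebra.FormallyUnramified A E := inferInstance
  -- the field generated
  let Φ : L ⊗[A] E →ₐ[L] Ω := Algebra.TensorProduct.lift (Algebra.ofId L Ω) σ fun _ _ => .all _ _
  haveI : Module.Finite L Φ.range := Module.Finite.of_surjective Φ.rangeRestrict.toLinearMap Φ.rangeRestrict_surjective
  haveI : Algebra.IsIntegral L Φ.range := Algebra.IsIntegral.of_finite L Φ.range
  let F : IntermediateField L Ω :=
    Subalgebra.toIntermediateField' Φ.range (isField_of_isIntegral_of_isField' (Field.toIsField L))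
  let Φr : L ⊗[A] E →ₐ[L] F := Φ.rangeRestrict
  have hΦ : Function.Surjective Φr := Φ.rangeRestrict_surjective
  haveI : FiniteDimensional L F := Module.Finite.of_surjective Φr.toLinearMap hΦ
  haveI : Algebra.FormallyUnramified L F := Algebra.FormallyUnramified.of_surjective Φr hΦ
  haveI : Algebra.IsSeparable L F := Algebra.FormallyUnramified.isSeparable L F
  have hσF : ∀ x, σ x ∈ F := fun x => ⟨1 ⊗ₜ x, by simp [Φ]⟩
  let σF : E →ₐ[A] F :=
    { toFun := fun x => ⟨σ x, hσF x⟩
      map_one' := Subtype.ext (map_one σ)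
      map_mul' := fun x y => Subtype.ext (map_mul σ x y)
      map_zero' := Subtype.ext (map_zero σ)
      map_add' := fun x y => Subtype.ext (map_add σ x y)
      commutes' := fun a => Subtype.ext (σ.commutes a) }
  choose γ hγ using fun τ : F →ₐ[L] Ω => hconj ((τ.restrictScalars A).comp σF)
  have hres : ∀ τ x, τ (σF x) = σ (γ τ x) := fun τ x => congr($(hγ τ) x)
  let Θ : E →ₗ[A] E := ∑ τ : F →ₐ[L] Ω, (γ τ).toLinearMap
  have hΘ : ∀ x, σ (Θ x) = algebraMap L Ω (Algebra.trace L F (σF x)) := fun x => by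
    rw [trace_eq_sum_embeddings Ω (K := L) (L := F) (x := σF x), show Θ x = ∑ τ : F →ₐ[L] Ω, γ τ x by
      simp [Θ, LinearMap.sum_apply], map_sum]
    exact Finset.sum_congr rfl fun τ _ => (hres τ x).symm
  have hmemD : ∀ x, σ (Θ x) ∈ D := fun x => by
    show σ (Θ x) ∈ (D : Set Ω)
    rw [hD]
    exact ⟨⟨_, rfl⟩, hΘ x ▸ (Algebra.trace L F (σF x)).2⟩
  -- an element of unit trace
  let ψ : (F →ₐ[L] Ω) → (E →* ResidueField E) := fun τ =>
    (residue E).toMonoidHom.comp (γ τ).toRingHom.toMonoidHom
  have hψ : Function.Injective ψ := fun τ τ' h => by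
    have hγe : γ τ = γ τ' := by
      obtain ⟨l, -, hlu⟩ := Hensel.existsUnique_etale_lift_of_algebra (maximalIdeal E)
        ((Ideal.Quotient.mkₐ A (maximalIdeal E)).comp (γ τ))
      exact (hlu (γ τ) rfl).trans (hlu (γ τ') (AlgHom.ext fun x => (DFunLike.congr_fun h x).symm)).symm
    refine AlgHom.ext fun z => ?_
    obtain ⟨w, rfl⟩ := hΦ z
    induction w using TensorProduct.induction_on with
    | zero => simp
    | tmul l x =>
      have e : Φr (l ⊗ₜ x) = algebraMap L F l * σF x := Subtype.ext (by simp [Φr, Φ, σF, F]; rfl)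
      rw [e, map_mul, map_mul, AlgHom.commutes, AlgHom.commutes, hres, hres, hγe]
    | add a b ha hb => rw [map_add, map_add, map_add, ha, hb]
  obtain ⟨θ, hθ⟩ : ∃ θ : E, IsUnit (Θ θ) := by
    by_contra hne
    push Not at hne
    have hind := (linearIndependent_monoidHom E (ResidueField E)).comp ψ hψ
    haveI : Nonempty (F →ₐ[L] Ω) := ⟨IsAlgClosed.lift⟩
    obtain ⟨τ₀⟩ := ‹Nonempty (F →ₐ[L] Ω)›
    refine one_ne_zero (Fintype.linearIndependent_iff.1 hind (fun _ => 1) (funext fun x => ?_) τ₀)
    simp only [Finset.sum_apply, one_smul, Function.comp_apply, Pi.zero_apply]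
    show ∑ τ : F →ₐ[L] Ω, residue E (γ τ x) = 0
    rw [← map_sum, residue_eq_zero_iff]
    have hx : Θ x = ∑ τ : F →ₐ[L] Ω, γ τ x := by simp [Θ, LinearMap.sum_apply]
    rw [← hx]
    exact hne x
  -- retraction
  let w : E := Θ θ
  have hkey : ∀ y ∈ D, ∀ x, σ x = y → σ (Θ (θ * x)) = y * σ w := fun y hy x hx => by
    have hyL : y ∈ L := (show y ∈ Set.range σ ∩ L from hD ▸ hy).2
    have hm : σF (θ * x) = (⟨y, hyL⟩ : L) • σF θ := by
      rw [Algebra.smul_def, map_mul, mul_comm]
      congr 1
      exact Subtype.ext hx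
    rw [hΘ, hm, map_smul, smul_eq_mul, map_mul, hΘ]
    rfl
  have hunit : ∀ y : D, (∃ x, σ x = (y : Ω) ∧ IsUnit x) → IsUnit y := by
    rintro ⟨y, hy⟩ ⟨x, hx, hxu⟩
    obtain ⟨z, hz⟩ := hxu.exists_right_inv
    have hzD : σ z ∈ D := by
      show σ z ∈ (D : Set Ω)
      rw [hD]
      refine ⟨⟨z, rfl⟩, ?_⟩
      have hyL : y ∈ L := (show y ∈ Set.range σ ∩ L from hD ▸ hy).2
      have h1 : y * σ z = 1 := by
        show y * σ z = 1
        rw [← show σ x = y from hx, ← map_mul, hz, map_one]
      rw [eq_inv_of_mul_eq_one_right h1]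
      exact L.inv_mem hyL
    exact IsUnit.of_mul_eq_one (⟨σ z, hzD⟩ : D) (Subtype.ext (by
      show y * σ z = 1
      rw [← show σ x = y from hx, ← map_mul, hz, map_one]))
  haveI : Nontrivial D := inferInstance
  have hlocal : IsLocalRing D := by
    refine IsLocalRing.of_nonunits_add fun a b ha hb hab => ?_
    obtain ⟨x, hx⟩ := (show (a : Ω) ∈ Set.range σ ∩ L from hD ▸ a.2).1
    obtain ⟨x', hx'⟩ := (show (b : Ω) ∈ Set.range σ ∩ L from hD ▸ b.2).1
    have hxm : x ∈ maximalIdeal E := fun h => ha (hunit a ⟨x, hx, h⟩)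
    have hxm' : x' ∈ maximalIdeal E := fun h => hb (hunit b ⟨x', hx', h⟩)
    obtain ⟨u, hu⟩ := hab.exists_right_inv
    obtain ⟨z, hz⟩ := (show (u : Ω) ∈ Set.range σ ∩ L from hD ▸ u.2).1
    have h1 : σ ((x + x') * z - 1) = 0 := by
      rw [map_sub, map_mul, map_add, hx, hx', hz, map_one, sub_eq_zero]
      exact congrArg Subtype.val hu
    have hm : (x + x') * z ∈ maximalIdeal E := Ideal.mul_mem_right _ _ (add_mem hxm hxm')
    have h2 : (x + x') * z - 1 ∈ maximalIdeal E :=
      IsLocalRing.le_maximalIdeal (RingHom.ker_ne_top σ.toRingHom) h1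
    exact (maximalIdeal.isMaximal E).ne_top ((Ideal.eq_top_iff_one _).2 (by simpa using sub_mem hm h2))
  haveI := hlocal
  haveI : Module.Finite A σ.range := Module.Finite.of_surjective σ.rangeRestrict.toLinearMap σ.rangeRestrict_surjective
  have hfin : Module.Finite A D := by
    have hle : D ≤ σ.range := fun y hy => (show y ∈ Set.range σ ∩ L from hD ▸ hy).1
    exact Module.Finite.of_injective (Subalgebra.inclusion hle).toLinearMap (Subalgebra.inclusion_injective hle)
  haveI := hfin
  refine ⟨hfin, ?_, hlocal⟩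
  -- the residue map into the residue field of `E`
  obtain ⟨uD, huD⟩ : ∃ uD : D, (uD : Ω) = σ w := ⟨⟨σ w, hmemD θ⟩, rfl⟩
  have huDu : IsUnit uD := hunit uD ⟨w, huD.symm, hθ⟩
  have hmax : ∀ d : D, ∀ x, σ x = (d : Ω) → x ∈ maximalIdeal E →
      d ∈ (maximalIdeal A).map (algebraMap A D) := by
    intro d x hx hxm
    have hxm' : x ∈ (maximalIdeal A) • (⊤ : Submodule A E) := by
      rw [Ideal.smul_top_eq_map, Submodule.restrictScalars_mem, Algebra.FormallyUnramified.map_maximalIdeal]
      exact hxm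
    let Ψ : E →ₗ[A] D := ((σ.toLinearMap.comp Θ).comp (LinearMap.mulLeft A θ)).codRestrict
      (Subalgebra.toSubmodule D) fun z => hmemD _
    have hΨ : Ψ x = d * uD := Subtype.ext (by
      show σ (Θ (θ * x)) = (d : Ω) * uD
      rw [hkey d d.2 x hx, huD])
    have h : Ψ x ∈ (maximalIdeal A) • (⊤ : Submodule A D) :=
      Submodule.smul_mono le_rfl le_top ((Submodule.map_smul'' (maximalIdeal A) ⊤ Ψ) ▸ Submodule.mem_map_of_mem hxm')
    rw [Ideal.smul_top_eq_map, Submodule.restrictScalars_mem, hΨ] at h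
    exact (Ideal.mul_unit_mem_iff_mem _ huDu).1 h
  have hnu : ∀ d : D, d ∈ maximalIdeal D → d ∈ (maximalIdeal A).map (algebraMap A D) := by
    intro d hd
    obtain ⟨x, hx⟩ := (show (d : Ω) ∈ Set.range σ ∩ L from hD ▸ d.2).1
    exact hmax d x hx fun h => hd (hunit d ⟨x, hx, h⟩)
  haveI : Algebra.IsIntegral A D := Algebra.IsIntegral.of_finite A D
  haveI : IsLocalHom (algebraMap A D) := ⟨fun a ha => by
    obtain ⟨v, hv⟩ := ha.exists_right_inv
    obtain ⟨z, hz⟩ := (show (v : Ω) ∈ Set.range σ ∩ L from hD ▸ v.2).1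
    by_contra hna
    have h1 : σ (algebraMap A E a * z - 1) = 0 := by
      rw [map_sub, map_mul, σ.commutes, hz, map_one, sub_eq_zero]
      exact congrArg Subtype.val hv
    have hm : algebraMap A E a * z ∈ maximalIdeal E :=
      Ideal.mul_mem_right _ _ (fun hu => hna (isUnit_of_map_unit _ a hu))
    have h2 : algebraMap A E a * z - 1 ∈ maximalIdeal E :=
      IsLocalRing.le_maximalIdeal (RingHom.ker_ne_top σ.toRingHom) h1
    exact (maximalIdeal.isMaximal E).ne_top ((Ideal.eq_top_iff_one _).2 (by simpa using sub_mem hm h2))⟩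
  rw [Algebra.FormallyUnramified.iff_map_maximalIdeal_eq]
  refine ⟨?_, le_antisymm (Ideal.map_le_iff_le_comap.2 fun a ha hu => ha (isUnit_of_map_unit _ a hu)) hnu⟩
  haveI : Algebra.IsSeparable (ResidueField A) (ResidueField E) :=
    (Algebra.FormallyUnramified.iff_map_maximalIdeal_eq.1 ‹Algebra.FormallyUnramified A E›).1
  choose lift hlift using fun d : D => (show (d : Ω) ∈ Set.range σ ∩ L from hD ▸ d.2).1
  have hker : ∀ x x', σ x = σ x' → residue E x = residue E x' := fun x x' h =>
    Ideal.Quotient.eq.2 (IsLocalRing.le_maximalIdeal (RingHom.ker_ne_top σ.toRingHom)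
      (show σ (x - x') = 0 by rw [map_sub, h, sub_self]))
  let f : D →ₐ[A] ResidueField E :=
    { toFun := fun d => residue E (lift d)
      map_one' := by rw [← map_one (residue E)]; exact hker _ _ (by rw [hlift, map_one]; rfl)
      map_mul' := fun d d' => by rw [← map_mul]; exact hker _ _ (by rw [map_mul, hlift, hlift, hlift]; rfl)
      map_zero' := by rw [← map_zero (residue E)]; exact hker _ _ (by rw [hlift, map_zero]; rfl)
      map_add' := fun d d' => by rw [← map_add]; exact hker _ _ (by rw [map_add, hlift, hlift, hlift]; rfl)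
      commutes' := fun a => hker (lift (algebraMap A D a)) (algebraMap A E a) (by rw [hlift, σ.commutes]; rfl) }
  haveI : IsLocalHom f.toRingHom := ⟨fun d hd => hunit d ⟨lift d, hlift d, by
    by_contra h
    have h0 : residue E (lift d) = 0 := (residue_eq_zero_iff _).2 h
    exact not_isUnit_zero (h0 ▸ (show IsUnit (residue E (lift d)) from hd))⟩⟩
  let g : ResidueField D →ₐ[ResidueField A] ResidueField E :=
    { IsLocalRing.ResidueField.lift f.toRingHom with
      commutes' := fun c => by
        obtain ⟨a, rfl⟩ := residue_surjective c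
        exact f.commutes a }
  exact Algebra.IsSeparable.of_algHom (ResidueField A) (ResidueField E) g

end Groth.Agent.EssEtGal7
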